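import Cfsg.Agent.Lib.Chevalley.InvolCert.Node

/-!
Chains of conjugations between products of root elements with parameter one, and the reduction of all
involutions of the group to the representatives of a certificate.
-/

set_option autoImplicit false
set_option linter.unusedSectionVars false

namespace Cfsg.Agent.Chevalley.InvolCert

open Cfsg.Lie Cfsg.Agent.Chevalley Cfsg.Agent.Chevalley.Table Cfsg.Agent.Chevalley.Cert
  Cfsg.Agent.Chevalley.Group Cfsg.Agent.Chevalley.Unip Cfsg.Agent.Chevalley.Borel

/-- A conjugation by a root element or by a monomial element, with its result. -/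
inductive Step where
  | x (s : ℕ) (res : List ℕ)
  | w (L : List ℕ) (res : List ℕ)

/-- A conjugation is correct. -/
noncomputable def stepChk (Sy : Sys) (S : List ℕ) : Step → Option (List ℕ)
  | .x s res => if Nat.blt s Sy.N && same Sy (((s, [[]]) :: oneW S) ++ [(s, [[]])]) (oneW res) then
      some res else none
  | .w L res => match mapW Sy L S with
    | some w => if same Sy w (oneW res) then some res else none
    | none => none

/-- A chain of conjugations ends at a class representative. -/
noncomputable def chainChk (Sy : Sys) : List ℕ → List Step → List ℕ → Bool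
  | S, [], E => same Sy (oneW S) (oneW E)
  | S, st :: l, E => match stepChk Sy S st with
    | some res => chainChk Sy res l E
    | none => false

/-- Every set of the certificate is linked to a representative. -/
noncomputable def chainsChk (Sy : Sys) (reps classes : List (List ℕ)) (chains : List (List Step × ℕ)) : Bool :=
  (List.range reps.length).all fun i =>
    Nat.blt (chains.getD i ([], 0)).2 classes.length &&
      chainChk Sy (reps.getD i []) (chains.getD i ([], 0)).1
        (classes.getD (chains.getD i ([], 0)).2 [])

variable {K : Type*} [Field K] [CharP K 2] (Sy : Sys) {T : Tab} (hC : Certified Sy.D T)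
  (hS : Sy.chkTbl = true)
include hC hS

/-- The product of the root elements at a list of positions, with parameter one. -/
noncomputable abbrev rep (S : List ℕ) : GL Sy.D.Idx K := wev (fun _ => (0 : K)) Sy hC (oneW S)

theorem step_sound [Fintype K] {S res : List ℕ} {st : Step} (h : stepChk Sy S st = some res) :
    Cj Sy (rep (K := K) Sy hC S) (rep (K := K) Sy hC res) := by
  cases st with
  | x s r =>
    simp only [stepChk] at h
    split at h
    · next hc =>
      simp only [Bool.and_eq_true, Nat.blt_eq] at hc
      rw [Option.some.injEq] at h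
      subst h
      refine ⟨xo Sy hC s 1, xo_mem_group Sy hC hS hc.1 _, ?_⟩
      have e := same_spec (fun _ => (0 : K)) Sy hC hS hc.2
      rw [List.cons_append, wev_cons, wev_append, wev_cons, wev_nil, mul_one] at e
      simp only [pev, mev, List.map_cons, List.map_nil, List.prod_nil, List.sum_cons, List.sum_nil,
        add_zero] at e
      rw [show (xo Sy hC s (1 : K))⁻¹ = xo Sy hC s 1 from Twist.CharTwo.xg_inv_self _ _, mul_assoc]
      exact e
    · simp at h
  | w L r =>
    simp only [stepChk] at h
    split at h
    · next w hw =>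
      split at h
      · next hc =>
        rw [Option.some.injEq] at h
        subst h
        rw [rep, rep, ← same_spec (fun _ => (0 : K)) Sy hC hS hc]
        exact cj_mapW Sy hC hS hw
      · simp at h
    · simp at h

theorem chain_sound [Fintype K] : ∀ {l : List Step} {S E : List ℕ}, chainChk Sy S l E = true →
    Cj Sy (rep (K := K) Sy hC S) (rep (K := K) Sy hC E)
  | [], S, E, h => by
    rw [chainChk] at h
    rw [rep, rep, same_spec (fun _ => (0 : K)) Sy hC hS h]
    exact Cj.refl Sy _
  | st :: l, S, E, h => by
    rw [chainChk] at h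
    split at h
    · next res hres => exact (step_sound Sy hC hS hres).trans Sy (chain_sound h)
    · simp at h

/-- Every involution of the group is conjugate to a class representative. -/
theorem exists_rep [Fintype K] {reps classes : List (List ℕ)} {chains : List (List Step × ℕ)}
    {C : NTable} {n top : ℕ} (hn : ∀ i < n, nodeChk Sy reps C i = true)
    (htop : (C.get (n - 1)).st = top) (hpos : 0 < n) (hfree : ∀ i < Sy.N, fl top i = 2)
    (hch : chainsChk Sy reps classes chains = true)
    (hsyl : ∀ g : Sy.D.group K, orderOf g = 2 →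
      ∃ x : Sy.D.group K, ((x * g * x⁻¹ : Sy.D.group K) : GL Sy.D.Idx K) ∈ Sy.D.posUnipotent K)
    {g : GL Sy.D.Idx K} (hg : g ∈ Sy.D.group K) (h2 : orderOf g = 2) :
    ∃ r ∈ classes, Cj Sy g (rep Sy hC r) := by
  obtain ⟨x, hx⟩ := hsyl ⟨g, hg⟩ ((Subgroup.orderOf_mk g hg).trans h2)
  obtain ⟨f, hf⟩ := exists_Po Sy hC hS hx
  simp only [Subgroup.coe_mul, Subgroup.coe_inv] at hf
  have hsq : g * g = 1 := by rw [← sq, ← h2]; exact pow_orderOf_eq_one g
  have hne : g ≠ 1 := fun e => by rw [e, orderOf_one] at h2; omega
  obtain ⟨r, hr, hcr⟩ := sound Sy hC hS hn (n - 1) (by omega) f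
    (fun i hi => by rw [htop, hfree i hi]; exact ⟨fun e => absurd e (by norm_num), fun e => absurd e (by norm_num)⟩)
    (by rw [← hf, show (x : GL Sy.D.Idx K) * g * (x : GL Sy.D.Idx K)⁻¹ *
      ((x : GL Sy.D.Idx K) * g * (x : GL Sy.D.Idx K)⁻¹) =
      (x : GL Sy.D.Idx K) * (g * g) * (x : GL Sy.D.Idx K)⁻¹ by group, hsq, mul_one, mul_inv_cancel])
    (fun e => hne (by rw [← hf, mul_inv_eq_one] at e; exact mul_eq_left.1 e))
  obtain ⟨i, hi, rfl⟩ := List.getElem_of_mem hr
  have hc := List.all_eq_true.1 hch i (List.mem_range.2 hi)
  simp only [Bool.and_eq_true, Nat.blt_eq, List.getD_eq_getElem _ _ hi] at hc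
  refine ⟨classes.getD (chains.getD i ([], 0)).2 [], ?_, ?_⟩
  · rw [List.getD_eq_getElem _ _ hc.1]; exact List.getElem_mem hc.1
  · exact (Cj.trans Sy ⟨_, x.2, hf⟩ hcr).trans Sy (chain_sound Sy hC hS hc.2)

end Cfsg.Agent.Chevalley.InvolCert
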