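import Cfsg.Agent.Lib.Chevalley.Twist.CharTwo
import Cfsg.Agent.Lib.Chevalley.Count

/-!
Collection with polynomial parameters in a positive unipotent group in characteristic two, with the
positive roots in their increasing order.
-/

set_option autoImplicit false
set_option linter.unusedSectionVars false

namespace Cfsg.Agent.Chevalley.InvolCert

open Cfsg.Lie Cfsg.Agent.Chevalley Cfsg.Agent.Chevalley.Table Cfsg.Agent.Chevalley.Cert
  Cfsg.Agent.Chevalley.Group Cfsg.Agent.Chevalley.Unip Cfsg.Agent.Chevalley.Borel

/-! ### Polynomials over the field with two elements -/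

/-- A polynomial: a list of monomials, each an increasing list of variables. -/
abbrev Poly := List (List ℕ)

/-- A word in root elements, by position. -/
abbrev Word := List (ℕ × Poly)

/-- Insert a variable. -/
def ins : ℕ → List ℕ → List ℕ
  | a, [] => [a]
  | a, b :: l => if a ≤ b then a :: b :: l else b :: ins a l

/-- The product of monomials. -/
def mulM (x y : List ℕ) : List ℕ := x.foldr ins y

/-- Two monomials agree. -/
noncomputable def eqM (x : List ℕ) : List ℕ → Bool :=
  List.rec (fun y => y.isEmpty)
    (fun a _ ih y => List.rec false (fun b y' _ => Nat.beq a b && ih y') y) x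

/-- Add a monomial. -/
noncomputable def tog (x : List ℕ) (p : Poly) : Poly :=
  List.rec [x] (fun y l ih => cond (eqM x y) l (y :: ih)) p

/-- The sum. -/
noncomputable def addP (p q : Poly) : Poly := p.foldr tog q

/-- The product. -/
noncomputable def mulP (p q : Poly) : Poly := p.foldr (fun x r => addP (q.map (mulM x)) r) []

/-- The powers. -/
noncomputable def powP (p : Poly) : ℕ → Poly
  | 0 => [[]]
  | n + 1 => cond (Nat.beq n 0) p (mulP p (powP p n))

/-! ### The table -/

/-- The odd commutator terms of the positive roots, by positions above the first. -/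
structure Sys where
  D : ChevalleyDatum
  base : ℕ
  N : ℕ
  rk : ℕ
  nr : ℕ
  car : List (List ℤ)
  ref : List (List ℕ)
  tbl : List (List (List (ℕ × ℕ × ℕ)))
  mask : ℕ

/-- The terms of a pair. -/
def Sys.terms (Sy : Sys) (r s : ℕ) : List (ℕ × ℕ × ℕ) := (Sy.tbl.getD r []).getD s []

/-- The table of one row is correct. -/
def Sys.rowChk (Sy : Sys) (r : ℕ) : Bool :=
  (List.range Sy.N).all fun s =>
    if r < s then
      decide (Sy.base + r < Sy.D.nroots ∧ Sy.base + s < Sy.D.nroots ∧
        Sy.base + s ≠ Sy.base + r ∧ Sy.base + s ≠ Sy.D.neg (Sy.base + r) ∧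
        ((Sy.D.commTerms (Sy.base + r) (Sy.base + s)).filter fun c => c.2.1 % 2 != 0).map
          (fun c => (c.1, c.2.2)) = (Sy.terms r s).map fun c => (Sy.base + c.1, c.2))
    else true

/-- The Cartan integers and the reflections of one simple root are correct. -/
def Sys.refChk (Sy : Sys) (i : ℕ) : Bool :=
  ((List.range Sy.N).all fun r => (Sy.car.getD i []).getD r 0 == Sy.D.cartan i (Sy.base + r)) &&
    (List.range Sy.nr).all fun r => Nat.beq ((Sy.ref.getD i []).getD r 0) (Sy.D.reflectRoot i r)

/-- Two positions commute, by the mask of the others. -/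
def Sys.com (Sy : Sys) (r s : ℕ) : Bool :=
  Nat.beq (Nat.land (Nat.shiftRight Sy.mask (r * Sy.N + s)) 1) 0

/-- The terms of one row stay in range and the mask marks the non-empty ones. -/
def Sys.maskChk (Sy : Sys) (r : ℕ) : Bool :=
  (List.range Sy.N).all fun s => !(Nat.blt r s) ||
    (((Sy.terms r s).all fun c => Nat.blt c.1 Sy.N) && (!(Sy.com r s) || (Sy.terms r s).isEmpty))

/-- The table is correct. -/
def Sys.chkTbl (Sy : Sys) : Bool :=
  decide (Sy.D.posRoots = List.range' Sy.base Sy.N) &&
    ((List.range Sy.N).all Sy.rowChk && (List.range Sy.N).all Sy.maskChk) &&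
    decide (Sy.D.rank = Sy.rk ∧ Sy.D.nroots = Sy.nr) && (List.range Sy.rk).all Sy.refChk

/-! ### Collection -/

/-- Fold from the right. -/
noncomputable def foldR {α β : Type} (f : α → β → β) (b : β) (l : List α) : β :=
  List.rec b (fun a _ ih => f a ih) l

/-- The terms of a pair below a bound. -/
def Sys.termsM (Sy : Sys) (M r s : ℕ) : List (ℕ × ℕ × ℕ) :=
  (Sy.terms r s).filter fun c => Nat.blt c.1 M

/-- Multiply a normal form on the left, dropping what lies above the bound. -/
noncomputable def push (Sy : Sys) (M n : ℕ) : ℕ × Poly → Word → Word :=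
  Nat.rec (fun x l => x :: l) (fun _ ih x l =>
    List.rec [x] (fun y l' ihl =>
      cond (Nat.beq x.1 y.1) ((x.1, addP x.2 y.2) :: l')
      (cond (Nat.blt x.1 y.1) (x :: y :: l')
      (cond (Nat.blt x.1 M)
        (cond (Sy.com y.1 x.1) (y :: ihl)
          (y :: foldR ih l'
            (x :: (Sy.termsM M y.1 x.1).map fun c => (c.1, mulP (powP y.2 c.2.1) (powP x.2 c.2.2)))))
        (x :: y :: l')))) l) n

/-- Drop trivial factors. -/
def norm (w : Word) : Word := w.filter fun x => !x.2.isEmpty

/-- Read a sorted word densely. -/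
def dense : ℕ → ℕ → Word → Option (List Poly)
  | 0, _, [] => some []
  | 0, _, _ :: _ => none
  | n + 1, i, [] => (dense n (i + 1) []).map ([] :: ·)
  | n + 1, i, (r, p) :: l =>
    if r = i then (dense n (i + 1) l).map (p :: ·) else (dense n (i + 1) ((r, p) :: l)).map ([] :: ·)

/-- The coordinates of a word below a bound. -/
noncomputable def nfM (Sy : Sys) (M : ℕ) (w : Word) : Option (List Poly) :=
  dense M 0 (norm (foldR (push Sy M 400) [] (norm w)))

/-- The coordinates of a word. -/
noncomputable def nf (Sy : Sys) (w : Word) : Option (List Poly) := nfM Sy Sy.N w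

/-- Two coordinate lists agree. -/
noncomputable def eqCo : List Poly → List Poly → Bool
  | [], [] => true
  | p :: l, q :: l' => (addP p q).isEmpty && eqCo l l'
  | _, _ => false

/-- Two words have the same coordinates. -/
noncomputable def same (Sy : Sys) (w w' : Word) : Bool :=
  match nf Sy w, nf Sy w' with
  | some c, some c' => eqCo c c'
  | _, _ => false

theorem eqCo_spec : ∀ {c c' : List Poly}, eqCo c c' = true →
    ∀ i, addP (c.getD i []) (c'.getD i []) = []
  | [], [], _, i => by simp [addP]
  | [], _ :: _, h, i => by simp [eqCo] at h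
  | _ :: _, [], h, i => by simp [eqCo] at h
  | p :: l, q :: l', h, i => by
    simp only [eqCo, Bool.and_eq_true, List.isEmpty_iff] at h
    cases i with
    | zero => simpa using h.1
    | succ i => simpa using eqCo_spec h.2 i

/-! ### Evaluation -/

variable {K : Type*} [Field K] [CharP K 2]

/-- The value of a monomial. -/
def mev (v : ℕ → K) (x : List ℕ) : K := (x.map v).prod

/-- The value of a polynomial. -/
def pev (v : ℕ → K) (p : Poly) : K := (p.map (mev v)).sum

variable (v : ℕ → K)

theorem mev_ins (a : ℕ) : ∀ l : List ℕ, mev v (ins a l) = v a * mev v l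
  | [] => by simp [ins, mev]
  | b :: l => by
    rw [ins]
    split
    · simp [mev]
    · have := mev_ins a l
      simp only [mev, List.map_cons, List.prod_cons] at this ⊢
      rw [this]; ring

theorem mev_mulM (x y : List ℕ) : mev v (mulM x y) = mev v x * mev v y := by
  induction x with
  | nil => simp [mulM, mev]
  | cons a x ih =>
    rw [show mulM (a :: x) y = ins a (mulM x y) from rfl, mev_ins, ih]
    simp [mev, mul_assoc]

theorem eqM_spec : ∀ {x y : List ℕ}, eqM x y = true → x = y
  | [], [], _ => rfl
  | [], _ :: _, h => by simp [eqM] at h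
  | _ :: _, [], h => by simp [eqM] at h
  | a :: x, b :: y, h => by
    have h' : (Nat.beq a b && eqM x y) = true := h
    rw [Bool.and_eq_true] at h'
    rw [Nat.eq_of_beq_eq_true h'.1, eqM_spec h'.2]

theorem pev_tog (x : List ℕ) : ∀ l : Poly, pev v (tog x l) = mev v x + pev v l
  | [] => by simp [tog, pev]
  | y :: l => by
    show pev v (cond (eqM x y) l (y :: tog x l)) = _
    cases h : eqM x y
    · simp only [cond_false]
      have := pev_tog x l
      simp only [pev, List.map_cons, List.sum_cons] at this ⊢
      rw [this]; ring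
    · simp only [cond_true]
      obtain rfl := eqM_spec h
      simp only [pev, List.map_cons, List.sum_cons]
      rw [← add_assoc, _root_.CharTwo.add_self_eq_zero, zero_add]

theorem pev_addP (p q : Poly) : pev v (addP p q) = pev v p + pev v q := by
  induction p with
  | nil => simp [addP, pev]
  | cons x p ih =>
    rw [show addP (x :: p) q = tog x (addP p q) from rfl, pev_tog, ih]
    simp [pev, add_assoc]

theorem pev_mulP (p q : Poly) : pev v (mulP p q) = pev v p * pev v q := by
  induction p with
  | nil => simp [mulP, pev]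
  | cons x p ih =>
    rw [show mulP (x :: p) q = addP (q.map (mulM x)) (mulP p q) from rfl, pev_addP, ih]
    have : pev v (q.map (mulM x)) = mev v x * pev v q := by
      clear ih
      induction q with
      | nil => simp [pev]
      | cons y q ihq =>
        simp only [pev, List.map_cons, List.sum_cons] at ihq ⊢
        rw [mev_mulM, List.map_map] at *
        rw [ihq]; ring
    rw [this]
    simp [pev, add_mul]

theorem pev_powP (p : Poly) : ∀ n, pev v (powP p n) = pev v p ^ n
  | 0 => by simp [powP, pev, mev]
  | n + 1 => by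
    rw [powP]
    cases h : Nat.beq n 0
    · rw [cond_false, pev_mulP, pev_powP p n, pow_succ']
    · rw [cond_true, Nat.eq_of_beq_eq_true h, pow_one]

variable (Sy : Sys) {T : Tab} (hC : Certified Sy.D T)

/-- The root element at a position. -/
noncomputable abbrev xo (i : ℕ) (t : K) : GL Sy.D.Idx K := xg hC (Sy.base + i) t

/-- The value of a word. -/
noncomputable def wev (w : Word) : GL Sy.D.Idx K :=
  (w.map fun x => xo Sy hC x.1 (pev v x.2)).prod

/-- The ordered product. -/
noncomputable def Po (f : ℕ → K) : GL Sy.D.Idx K :=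
  ((List.range' 0 Sy.N).map fun i => xo Sy hC i (f i)).prod

theorem wev_nil : wev v Sy hC [] = 1 := rfl

theorem wev_cons (x : ℕ × Poly) (w : Word) :
    wev v Sy hC (x :: w) = xo Sy hC x.1 (pev v x.2) * wev v Sy hC w := by
  simp [wev]

theorem wev_append (w w' : Word) :
    wev v Sy hC (w ++ w') = wev v Sy hC w * wev v Sy hC w' := by
  simp [wev]

theorem wev_norm : ∀ w : Word, wev v Sy hC (norm w) = wev v Sy hC w
  | [] => rfl
  | x :: w => by
    have := wev_norm w
    rw [norm] at this ⊢
    rw [List.filter_cons]
    split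
    · rw [wev_cons, this, wev_cons]
    · next h =>
      rw [this, wev_cons, show x.2 = [] from List.isEmpty_iff.1 (by simpa using h), xo,
        show pev v [] = 0 from rfl, xg_zero hC, one_mul]

theorem cast_odd (c : ℤ) : (c : K) = if c % 2 = 0 then 0 else 1 := by
  split <;> rename_i h
  · obtain ⟨d, rfl⟩ := Int.dvd_of_emod_eq_zero h
    rw [Int.cast_mul]; simp [_root_.CharTwo.two_eq_zero]
  · obtain ⟨d, rfl⟩ : ∃ d, c = 2 * d + 1 := ⟨c / 2, by omega⟩
    push_cast; simp [_root_.CharTwo.two_eq_zero]

/-- The commutator product only sees the odd terms. -/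
theorem comm_filter (L : List (ℕ × ℤ × ℕ × ℕ)) (t u : K) :
    ((L.map fun c => (c.1, (c.2.1 : K) * (-t) ^ c.2.2.1 * u ^ c.2.2.2)).map fun p =>
        xg hC p.1 p.2).prod =
      (((L.filter fun c => c.2.1 % 2 != 0).map fun c => (c.1, c.2.2)).map fun p =>
        xg hC p.1 (t ^ p.2.1 * u ^ p.2.2)).prod := by
  induction L with
  | nil => rfl
  | cons c L ih =>
    rw [List.filter_cons]
    by_cases h : c.2.1 % 2 = 0
    · rw [if_neg (by simp [h])]
      simp only [List.map_cons, List.prod_cons]
      rw [ih, cast_odd, if_pos h, zero_mul, zero_mul, xg_zero hC, one_mul]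
    · rw [if_pos (by simp [h])]
      simp only [List.map_cons, List.prod_cons]
      rw [ih, cast_odd, if_neg h, CharTwo.neg_eq, one_mul]

variable (hS : Sy.chkTbl = true)
include hC hS

theorem posRoots_eq : Sy.D.posRoots = List.range' Sy.base Sy.N := by
  simp only [Sys.chkTbl, Bool.and_eq_true] at hS
  exact of_decide_eq_true hS.1.1.1

theorem row_ok {r : ℕ} (hr : r < Sy.N) : Sy.rowChk r = true := by
  simp only [Sys.chkTbl, Bool.and_eq_true] at hS
  exact List.all_eq_true.1 hS.1.1.2.1 r (List.mem_range.2 hr)

theorem mask_ok {r s : ℕ} (hrs : r < s) (hs : s < Sy.N) :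
    (∀ c ∈ Sy.terms r s, c.1 < Sy.N) ∧ (Sy.com r s = true → Sy.terms r s = []) := by
  simp only [Sys.chkTbl, Bool.and_eq_true] at hS
  have h := List.all_eq_true.1
    (List.all_eq_true.1 hS.1.1.2.2 r (List.mem_range.2 (by omega))) s (List.mem_range.2 hs)
  simp only [Bool.or_eq_true, Bool.and_eq_true, Bool.not_eq_true', List.all_eq_true, Nat.blt_eq,
    List.isEmpty_iff] at h
  rcases h with h | ⟨h1, h2⟩
  · exact absurd (show Nat.blt r s = true by simp only [Nat.blt_eq]; exact hrs) (by simp [h])
  · exact ⟨h1, fun hc => h2.resolve_left (by simp [hc])⟩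

theorem rk_eq : Sy.D.rank = Sy.rk ∧ Sy.D.nroots = Sy.nr := by
  simp only [Sys.chkTbl, Bool.and_eq_true] at hS
  exact of_decide_eq_true hS.1.2

theorem car_eq {i r : ℕ} (hi : i < Sy.rk) (hr : r < Sy.N) :
    (Sy.car.getD i []).getD r 0 = Sy.D.cartan i (Sy.base + r) := by
  simp only [Sys.chkTbl, Bool.and_eq_true] at hS
  have h := List.all_eq_true.1 hS.2 i (List.mem_range.2 hi)
  simp only [Sys.refChk, Bool.and_eq_true] at h
  exact eq_of_beq (List.all_eq_true.1 h.1 r (List.mem_range.2 hr))

theorem ref_eq {i r : ℕ} (hi : i < Sy.rk) (hr : r < Sy.nr) :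
    (Sy.ref.getD i []).getD r 0 = Sy.D.reflectRoot i r := by
  simp only [Sys.chkTbl, Bool.and_eq_true] at hS
  have h := List.all_eq_true.1 hS.2 i (List.mem_range.2 hi)
  simp only [Sys.refChk, Bool.and_eq_true] at h
  exact Nat.eq_of_beq_eq_true (List.all_eq_true.1 h.2 r (List.mem_range.2 hr))

theorem swap {r s : ℕ} (hrs : r < s) (hsN : s < Sy.N) (t u : K) :
    xo Sy hC s u * xo Sy hC r t = xo Sy hC r t * xo Sy hC s u *
      ((Sy.terms r s).map fun c => xo Sy hC c.1 (t ^ c.2.1 * u ^ c.2.2)).prod := by
  have h := row_ok Sy hC hS (r := r) (by omega)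
  have h' := List.all_eq_true.1 h s (List.mem_range.2 hsN)
  rw [if_pos hrs] at h'
  obtain ⟨hr, hs, hne, hneg, hT⟩ := of_decide_eq_true h'
  rw [xo, xo, xg_comm hC hr hs hne hneg, ChevalleyDatum.commWord, comm_filter, hT, List.map_map]
  rfl

omit hC hS in
/-- The value of a word in a group, by the values of the root elements. -/
def evalW {G : Type*} [Monoid G] (φ : ℕ → K → G) (w : Word) : G :=
  (w.map fun x => φ x.1 (pev v x.2)).prod

omit hC hS in
theorem evalW_cons {G : Type*} [Monoid G] (φ : ℕ → K → G) (x : ℕ × Poly) (w : Word) :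
    evalW v φ (x :: w) = φ x.1 (pev v x.2) * evalW v φ w := by
  simp [evalW]

omit hC hS in
theorem evalW_foldR {G : Type*} [Monoid G] (φ : ℕ → K → G) {f : ℕ × Poly → Word → Word}
    (h : ∀ x l, evalW v φ (f x l) = φ x.1 (pev v x.2) * evalW v φ l) :
    ∀ w l : Word, evalW v φ (foldR f l w) = evalW v φ w * evalW v φ l
  | [], l => by simp [foldR, evalW]
  | x :: w, l => by
    show evalW v φ (f x (foldR f l w)) = _
    rw [h, evalW_foldR φ h w l, evalW_cons, mul_assoc]

/-- Collection keeps the value in any group where the commutation rules below the bound hold. -/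
theorem evalW_push {G : Type*} [Group G] (φ : ℕ → K → G) {M : ℕ} (hM : M ≤ Sy.N)
    (hadd : ∀ i t u, φ i (t + u) = φ i t * φ i u)
    (hswap : ∀ {r s : ℕ}, r < s → s < M → ∀ t u : K, φ s u * φ r t = φ r t * φ s u *
      ((Sy.termsM M r s).map fun c => φ c.1 (t ^ c.2.1 * u ^ c.2.2)).prod) :
    ∀ (n : ℕ) (x : ℕ × Poly) (l : Word),
      evalW v φ (push Sy M n x l) = φ x.1 (pev v x.2) * evalW v φ l
  | 0, x, l => evalW_cons v φ x l
  | n + 1, x, [] => evalW_cons v φ x []
  | n + 1, x, y :: l => by
    show evalW v φ (cond (Nat.beq x.1 y.1) ((x.1, addP x.2 y.2) :: l)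
      (cond (Nat.blt x.1 y.1) (x :: y :: l)
      (cond (Nat.blt x.1 M)
        (cond (Sy.com y.1 x.1) (y :: push Sy M (n + 1) x l)
          (y :: foldR (push Sy M n) l
            (x :: (Sy.termsM M y.1 x.1).map fun c => (c.1, mulP (powP y.2 c.2.1) (powP x.2 c.2.2)))))
        (x :: y :: l)))) = _
    cases h1 : Nat.beq x.1 y.1
    · cases h2 : Nat.blt x.1 y.1
      · cases h3 : Nat.blt x.1 M
        · simp only [cond_false, evalW_cons]
        · have hne : x.1 ≠ y.1 := fun e => by rw [e] at h1; simp at h1
          have hnlt : ¬ x.1 < y.1 := fun e => by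
            rw [show Nat.blt x.1 y.1 = true by simp only [Nat.blt_eq]; exact e] at h2; simp at h2
          have hlt : y.1 < x.1 := by omega
          have hsM : x.1 < M := by simpa only [Nat.blt_eq] using h3
          have e := hswap hlt hsM (pev v y.2) (pev v x.2)
          cases h4 : Sy.com y.1 x.1
          · simp only [cond_false, cond_true, evalW_cons,
              evalW_foldR v φ (evalW_push φ hM hadd hswap n)]
            have e2 : evalW v φ ((Sy.termsM M y.1 x.1).map fun c =>
                (c.1, mulP (powP y.2 c.2.1) (powP x.2 c.2.2))) =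
                ((Sy.termsM M y.1 x.1).map fun c =>
                  φ c.1 (pev v y.2 ^ c.2.1 * pev v x.2 ^ c.2.2)).prod := by
              rw [evalW, List.map_map]
              exact congrArg List.prod (List.map_congr_left fun c _ => by simp [pev_mulP, pev_powP])
            rw [e2, ← mul_assoc (φ x.1 _) (φ y.1 _) _, e]
            simp only [mul_assoc]
          · have hT : Sy.termsM M y.1 x.1 = [] := by
              rw [Sys.termsM, (mask_ok Sy hC hS hlt (by omega)).2 h4]; rfl
            rw [hT, List.map_nil, List.prod_nil, mul_one] at e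
            simp only [cond_false, cond_true, evalW_cons, evalW_push φ hM hadd hswap (n + 1) x l]
            rw [← mul_assoc, ← e, mul_assoc]
      · simp only [cond_false, cond_true, evalW_cons]
    · have := Nat.eq_of_beq_eq_true h1
      simp only [cond_true, evalW_cons, this, pev_addP, hadd, mul_assoc]

theorem termsM_N {r s : ℕ} (hrs : r < s) (hs : s < Sy.N) : Sy.termsM Sy.N r s = Sy.terms r s := by
  rw [Sys.termsM, List.filter_eq_self]
  intro c hc
  simp only [Nat.blt_eq]
  exact (mask_ok Sy hC hS hrs hs).1 c hc

theorem wev_push (n : ℕ) (x : ℕ × Poly) (l : Word) :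
    wev v Sy hC (push Sy Sy.N n x l) = xo Sy hC x.1 (pev v x.2) * wev v Sy hC l :=
  evalW_push v Sy hC hS (fun i t => xo Sy hC i t) le_rfl (fun i t u => xg_add hC _ t u)
    (fun hrs hs t u => by rw [termsM_N Sy hC hS hrs hs]; exact swap Sy hC hS hrs hs t u) n x l

omit hC hS in
/-- The value of a densely read word in a group. -/
theorem eval_dense {G : Type*} [Monoid G] (φ : ℕ → K → G) (h0 : ∀ i, φ i 0 = 1) :
    ∀ (n i : ℕ) (w : Word) (c : List Poly), dense n i w = some c →
    evalW v φ w = ((List.range' i n).map fun j => φ j (pev v (c.getD (j - i) []))).prod := by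
  intro n
  induction n with
  | zero =>
    intro i w c h
    cases w with
    | nil => simp [evalW]
    | cons x l => simp [dense] at h
  | succ n ih =>
    intro i w c h
    have step : ∀ (p : Poly) (l : Word), (dense n (i + 1) l).map (p :: ·) = some c →
        ((List.range' i (n + 1)).map fun j => φ j (pev v (c.getD (j - i) []))).prod =
          φ i (pev v p) * evalW v φ l := by
      intro p l h
      obtain ⟨c', hc', rfl⟩ := Option.map_eq_some_iff.1 h
      rw [List.range'_succ, List.map_cons, List.prod_cons, ih _ _ _ hc', Nat.sub_self,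
        List.getD_cons_zero]
      congr 2
      refine List.map_congr_left fun j hj => ?_
      rw [List.mem_range'_1] at hj
      rw [show j - i = (j - (i + 1)) + 1 by omega, List.getD_cons_succ]
    have h0' : φ i (pev v []) = 1 := h0 i
    cases w with
    | nil => rw [step [] [] h, h0', one_mul]
    | cons x l =>
      obtain ⟨r, p⟩ := x
      rw [dense] at h
      split at h
      · next hri => subst hri; rw [step p l h, evalW_cons]
      · rw [step [] _ h, h0', one_mul]

theorem wev_dense (n i : ℕ) (w : Word) (c : List Poly) (h : dense n i w = some c) :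
    wev v Sy hC w =
      ((List.range' i n).map fun j => xo Sy hC j (pev v (c.getD (j - i) []))).prod :=
  eval_dense v (fun i t => xo Sy hC i t) (fun _ => xg_zero hC _) n i w c h

theorem wev_nf {w : Word} {c : List Poly} (h : nf Sy w = some c) :
    wev v Sy hC w = Po Sy hC fun i => pev v (c.getD i []) := by
  have := wev_dense v Sy hC hS Sy.N 0 _ c h
  rw [wev_norm] at this
  have e := evalW_foldR v (fun i t => xo Sy hC i t) (f := push Sy Sy.N 400)
    (wev_push v Sy hC hS 400) (norm w) []
  rw [show evalW v (fun i t => xo Sy hC i t) (norm w) * evalW v (fun i t => xo Sy hC i t) [] =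
    wev v Sy hC w from (mul_one _).trans (wev_norm v Sy hC w)] at e
  rw [show wev v Sy hC (foldR (push Sy Sy.N 400) [] (norm w)) = wev v Sy hC w from e] at this
  simpa [Po] using this

theorem same_spec {w w' : Word} (h : same Sy w w' = true) :
    wev v Sy hC w = wev v Sy hC w' := by
  unfold same at h
  split at h
  · next c c' hc hc' =>
    rw [wev_nf v Sy hC hS hc, wev_nf v Sy hC hS hc']
    unfold Po
    refine congrArg List.prod (List.map_congr_left fun i hi => ?_)
    simp only [List.mem_range'_1] at hi
    have e := pev_addP v (c.getD i []) (c'.getD i [])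
    rw [eqCo_spec h i] at e
    show xo Sy hC i (pev v (c.getD i [])) = xo Sy hC i (pev v (c'.getD i []))
    rw [_root_.CharTwo.add_eq_zero.1 e.symm]
  · simp at h

/-- A word in increasing positions. -/
def idW (n : ℕ) : Word := (List.range' 0 n).map fun i => (i, [[i]])

theorem pos_of {i : ℕ} (hi : i < Sy.N) :
    Sy.base + i < Sy.D.nroots ∧ 0 < T.phi (Sy.base + i) :=
  (mem_posRoots hC).1 (by rw [posRoots_eq Sy hC hS, List.mem_range'_1]; omega)

theorem xo_mem {i : ℕ} (hi : i < Sy.N) (t : K) : xo Sy hC i t ∈ Sy.D.posUnipotent K :=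
  xg_mem_U hC (pos_of Sy hC hS hi).1 (pos_of Sy hC hS hi).2 t

theorem Po_mem (f : ℕ → K) : Po Sy hC f ∈ Sy.D.posUnipotent K :=
  list_prod_mem fun g hg => by
    obtain ⟨i, hi, rfl⟩ := List.mem_map.1 hg
    exact xo_mem Sy hC hS (by simp [List.mem_range'_1] at hi; omega) _

theorem Po_eq_prodX (f : ℕ → K) :
    Po Sy hC f = prodX hC Sy.D.posRoots fun r => f (r - Sy.base) := by
  rw [posRoots_eq Sy hC hS, prodX, Po, List.range'_eq_map_range, List.map_map,
    List.range'_eq_map_range, List.map_map]
  refine congrArg List.prod (List.map_congr_left fun i _ => ?_)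
  simp [xo]

theorem exists_Po {u : GL Sy.D.Idx K} (hu : u ∈ Sy.D.posUnipotent K) :
    ∃ f : ℕ → K, u = Po Sy hC f := by
  obtain ⟨t, rfl⟩ := exists_prodX hC hu
  refine ⟨fun i => t (Sy.base + i), ?_⟩
  rw [Po_eq_prodX Sy hC hS]
  refine prodX_congr hC fun r hr => ?_
  rw [posRoots_eq Sy hC hS, List.mem_range'_1] at hr
  rw [show Sy.base + (r - Sy.base) = r by omega]

theorem Po_inj {f g : ℕ → K} (h : Po Sy hC f = Po Sy hC g) {i : ℕ} (hi : i < Sy.N) : f i = g i := by
  rw [Po_eq_prodX Sy hC hS, Po_eq_prodX Sy hC hS] at h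
  have := prodX_inj hC (by rw [posRoots_eq Sy hC hS]; exact List.pairwise_lt_range')
    (fun r hr => (mem_posRoots hC).1 hr) h (Sy.base + i)
    (by rw [posRoots_eq Sy hC hS, List.mem_range'_1]; omega)
  simpa using this

/-- An ordered product in the group of the roots above a bound has no coordinate below it. -/
theorem coord_eq_zero {f : ℕ → K} {M k : ℕ} (h : Po Sy hC f ∈ Uge hC K (Sy.base + M)) (hk : k < M) (hkN : k < Sy.N) :
    f k = 0 := by
  classical
  obtain ⟨t, ht⟩ := split_decomp hC (fun _ => true) _ _ h
  have e : prodX hC ((posFrom Sy.D (Sy.base + M)).filter fun _ => true) t *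
      prodX hC ((posFrom Sy.D (Sy.base + M)).filter fun r => !true).reverse t =
      prodX hC Sy.D.posRoots fun r => if Sy.base + M ≤ r then t r else 0 := by
    simp only [Bool.not_true, List.filter_false, List.reverse_nil, List.filter_true, posFrom]
    rw [show prodX hC ([] : List ℕ) t = 1 from rfl, mul_one]
    induction Sy.D.posRoots with
    | nil => rfl
    | cons a l ih =>
      rw [List.filter_cons]
      simp only [prodX, List.map_cons, List.prod_cons] at ih ⊢
      by_cases ha : Sy.base + M ≤ a
      · simp [ha, ih]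
      · simp [ha, ih, xg_zero hC]
  rw [Po_eq_prodX Sy hC hS, e] at ht
  have := prodX_inj hC (posRoots_sorted) (fun r hr => (mem_posRoots hC).1 hr) ht (Sy.base + k)
    (by rw [posRoots_eq Sy hC hS, List.mem_range'_1]; omega)
  simpa [show ¬ Sy.base + M ≤ Sy.base + k by omega] using this

end Cfsg.Agent.Chevalley.InvolCert
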