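import Cfsg.Agent.Lib.Chevalley.InvolCert.Chain
import Cfsg.Agent.Lib.Chevalley.Exceptional.Mod2

/-!
The rank of the displacement of a product of root elements with parameter one, from a certificate: the
image is spanned by given vectors with private pivots.
-/

set_option autoImplicit false
set_option linter.unusedSectionVars false

open scoped Matrix

namespace Cfsg.Agent.Chevalley.InvolCert

open Cfsg.Lie Cfsg.Agent.Chevalley Cfsg.Agent.Chevalley.Eval Cfsg.Agent.Chevalley.Table
  Cfsg.Agent.Chevalley.Cert Cfsg.Agent.Chevalley.Group Cfsg.Agent.Exceptional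

/-- The displacement of one vector equals another. -/
noncomputable def dispChk (col : Col) (w : List ℕ) (src tgt : List ℕ) : Bool :=
  (Mod2.red (negTerms (Mod2.ones tgt)
    (negTerms (Mod2.ones src) (Mod2.actW col w (Mod2.ones src))))).isEmpty

/-- The certificate: spanning vectors with sources, targets and pivots, and the expansions of all columns. -/
noncomputable def rankChk (col : Col) (dim : ℕ) (w : List ℕ)
    (basisV : List (List ℕ × List ℕ × ℕ)) (expand : List (List ℕ)) : Bool :=
  ((List.range basisV.length).all fun k =>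
    Nat.blt (basisV.getD k ([], [], 0)).2.2 dim &&
      dispChk col w (basisV.getD k ([], [], 0)).1 (basisV.getD k ([], [], 0)).2.1 &&
      (List.range basisV.length).all fun i =>
        Nat.beq ((basisV.getD k ([], [], 0)).2.1.count (basisV.getD i ([], [], 0)).2.2 % 2)
          (if i = k then 1 else 0)) &&
  allR dim fun j => ((expand.getD j []).all fun k => Nat.blt k basisV.length) &&
    dispChk col w [j] ((expand.getD j []).flatMap fun k => (basisV.getD k ([], [], 0)).2.1)

variable {D : ChevalleyDatum} {F : Type*} [Field F] [CharP F 2] {T : Tab} (hC : Certified D T)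

/-- The displacement. -/
noncomputable def disp (g : GL D.Idx F) : Matrix D.Idx D.Idx F := (g : Matrix D.Idx D.Idx F) - 1

theorem rank_disp_conj (g x : GL D.Idx F) : (disp (g * x * g⁻¹)).rank = (disp x).rank := by
  have e : disp (g * x * g⁻¹) =
      (g : Matrix D.Idx D.Idx F) * disp x * ((g⁻¹ : GL D.Idx F) : Matrix D.Idx D.Idx F) := by
    simp [disp, Matrix.mul_sub, Matrix.sub_mul, Units.val_mul]
  rw [e, Matrix.rank_mul_eq_left_of_isUnit_det _ _ ((Matrix.isUnit_iff_isUnit_det _).1 (Units.isUnit _)),
    Matrix.rank_mul_eq_right_of_isUnit_det _ _ ((Matrix.isUnit_iff_isUnit_det _).1 (Units.isUnit _))]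

include hC

theorem dispChk_spec {w src tgt : List ℕ} (h : dispChk T.col w src tgt = true) :
    disp (Mod2.wg F hC w) *ᵥ Mod2.onesV D F src = Mod2.onesV D F tgt := by
  have h1 := Mod2.vec_red (D := D) (F := F) (negTerms (Mod2.ones tgt)
    (negTerms (Mod2.ones src) (Mod2.actW T.col w (Mod2.ones src))))
  rw [List.isEmpty_iff.1 h, vec_nil, vec_negTerms, vec_negTerms, Mod2.vec_actW hC, Mod2.vec_ones,
    Mod2.vec_ones, eq_comm, sub_eq_zero] at h1
  rw [disp, Matrix.sub_mulVec, Matrix.one_mulVec]
  exact h1

theorem onesV_flatMap {α : Type*} (f : α → List ℕ) : ∀ l : List α,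
    Mod2.onesV D F (l.flatMap f) = (l.map fun k => Mod2.onesV D F (f k)).sum
  | [] => by simp [Mod2.onesV]
  | k :: l => by
    have := onesV_flatMap f l
    simp only [Mod2.onesV] at this ⊢
    rw [List.flatMap_cons, List.map_append, List.sum_append, this, List.map_cons, List.sum_cons]

theorem rank_eq {w : List ℕ} {bV : List (List ℕ × List ℕ × ℕ)} {ex : List (List ℕ)}
    (h : rankChk T.col (D.rank + D.nroots) w bV ex = true) :
    (disp (Mod2.wg F hC w)).rank = bV.length := by
  classical
  simp only [rankChk, Bool.and_eq_true, List.all_eq_true, List.mem_range] at h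
  obtain ⟨hb, he⟩ := h
  obtain ⟨v, hv⟩ : ∃ v : Fin bV.length → D.Idx → F,
      v = fun k => Mod2.onesV D F (bV.getD k.1 ([], [], 0)).2.1 := ⟨_, rfl⟩
  have hspan : LinearMap.range (disp (Mod2.wg F hC w)).mulVecLin = Submodule.span F (Set.range v) := by
    refine le_antisymm ?_ (Submodule.span_le.2 ?_)
    · rintro _ ⟨x, rfl⟩
      rw [pi_eq_sum_univ x, map_sum]
      refine Submodule.sum_mem _ fun i _ => ?_
      rw [map_smul]
      refine Submodule.smul_mem _ _ ?_
      have hlt : code D i < D.rank + D.nroots := by
        rcases i with a | a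
        · exact Nat.lt_add_right _ a.2
        · exact Nat.add_lt_add_left a.2 _
      have h2 := of_allR he (code D i) hlt
      simp only [Bool.and_eq_true, List.all_eq_true, Nat.blt_eq] at h2
      have h3 := dispChk_spec (F := F) hC h2.2
      rw [onesV_flatMap hC] at h3
      have hei : (fun j => if i = j then (1 : F) else 0) = Mod2.onesV D F [code D i] := by
        funext j
        simp [Mod2.onesV, basis_code, Pi.single_apply, eq_comm]
      rw [hei, Matrix.mulVecLin_apply, h3]
      refine list_sum_mem fun y hy => ?_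
      obtain ⟨k, hk, rfl⟩ := List.mem_map.1 hy
      exact Submodule.subset_span ⟨⟨k, h2.1 k hk⟩, by rw [hv]⟩
    · rintro _ ⟨k, rfl⟩
      exact ⟨Mod2.onesV D F (bV.getD k.1 ([], [], 0)).1, by
        rw [hv, Matrix.mulVecLin_apply]; exact dispChk_spec hC (hb k k.2).1.2⟩
  have hli : LinearIndependent F v := by
    rw [Fintype.linearIndependent_iff]
    intro a ha i
    obtain ⟨p, hp⟩ := exists_code (D := D) (Nat.blt_eq ▸ (hb i i.2).1.1)
    have h0 := congrFun ha p
    simp only [Finset.sum_apply, Pi.smul_apply, smul_eq_mul, Pi.zero_apply] at h0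
    rw [Finset.sum_eq_single i] at h0
    · have hc := (hb i i.2).2 i i.2
      rw [if_pos rfl] at hc
      rw [hv] at h0
      simp only [Mod2.onesV_apply, hp] at h0
      rw [(CharP.natCast_eq_natCast F 2).2 (show _ % 2 = 1 % 2 from Nat.eq_of_beq_eq_true hc),
        Nat.cast_one, mul_one] at h0
      exact h0
    · intro k _ hk
      have hc := (hb k k.2).2 i i.2
      rw [if_neg (fun e => hk (Fin.ext e.symm))] at hc
      rw [hv]
      simp only [Mod2.onesV_apply, hp]
      rw [(CharP.natCast_eq_natCast F 2).2 (show _ % 2 = 0 % 2 from Nat.eq_of_beq_eq_true hc),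
        Nat.cast_zero, mul_zero]
    · intro hh; exact absurd (Finset.mem_univ i) hh
  rw [Matrix.rank, hspan, finrank_span_eq_card hli, Fintype.card_fin]

/-- The word of a set of positions as a word of roots. -/
theorem wev_oneW_eq_wg {b : ℕ} (S : List ℕ) :
    ((S.map fun i => xg (F := F) hC (b + i) 1).prod : GL D.Idx F) =
      Mod2.wg F hC (S.map fun i => b + i) := by
  induction S with
  | nil => simp [Mod2.wg_nil]
  | cons i S ih => rw [List.map_cons, List.prod_cons, ih, List.map_cons, Mod2.wg_cons]

omit hC in
theorem rep_eq {K : Type*} [Field K] [CharP K 2] (Sy : Sys) {T : Tab} (hC : Certified Sy.D T)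
    (hS : Sy.chkTbl = true) (S : List ℕ) :
    rep (K := K) Sy hC S = (S.map fun i => xg (F := K) hC (Sy.base + i) 1).prod := by
  induction S with
  | nil => rfl
  | cons i S ih =>
    simp only [rep, oneW, List.map_cons] at ih ⊢
    rw [wev_cons, List.prod_cons, ← ih]
    simp [pev, mev]

end Cfsg.Agent.Chevalley.InvolCert
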