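import Cfsg.Agent.Lib.Chevalley.InvolCert.Group
import Cfsg.Agent.Lib.Chevalley.InvolCert.Rank
import Cfsg.Agent.Lib.Chevalley.NormalForm

/-! Properties of the class representatives of a certificate. -/

set_option autoImplicit false
set_option linter.unusedSectionVars false

namespace Cfsg.Agent.Chevalley.InvolCert

open Cfsg.Lie Cfsg.Agent.Chevalley Cfsg.Agent.Chevalley.Table Cfsg.Agent.Chevalley.Cert
  Cfsg.Agent.Chevalley.Group Cfsg.Agent.Chevalley.Unip Cfsg.Agent.Chevalley.Borel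

/-- A root element commutes with all root elements of the positive roots. -/
noncomputable def commChk (Sy : Sys) (p : ℕ) : Bool :=
  Nat.blt p Sy.N && (List.range Sy.N).all fun i =>
    same Sy [(i, [[0]]), (p, [[]])] [(p, [[]]), (i, [[0]])]

variable {K : Type*} [Field K] [CharP K 2] (Sy : Sys) {T : Tab} (hC : Certified Sy.D T)
  (hS : Sy.chkTbl = true)
include hC hS

theorem rep_mem {S : List ℕ} (hb : ∀ i ∈ S, i < Sy.N) : rep (K := K) Sy hC S ∈ Sy.D.group K := by
  rw [rep_eq Sy hC hS]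
  exact list_prod_mem fun g hg => by
    obtain ⟨i, hi, rfl⟩ := List.mem_map.1 hg
    exact AutThm.U_le_group hC (xo_mem Sy hC hS (hb i hi) 1)

theorem rep_sq {S : List ℕ} (h : same Sy (oneW S ++ oneW S) [] = true) :
    rep (K := K) Sy hC S * rep Sy hC S = 1 := by
  rw [rep, ← wev_append, same_spec (fun _ => (0 : K)) Sy hC hS h, wev_nil]

theorem rank_rep {S : List ℕ} {bV : List (List ℕ × List ℕ × ℕ)} {ex : List (List ℕ)} {n : ℕ}
    (h : rankChk T.col n (S.map fun i => Sy.base + i) bV ex = true)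
    (hn : Sy.D.rank + Sy.D.nroots = n) :
    (disp (rep (K := K) Sy hC S)).rank = bV.length := by
  subst hn
  rw [rep_eq Sy hC hS, wev_oneW_eq_wg hC]
  exact rank_eq hC h

theorem order_two {S : List ℕ} (h : same Sy (oneW S ++ oneW S) [] = true) {r : ℕ}
    (hr : (disp (rep (K := K) Sy hC S)).rank = r) (h0 : 0 < r) :
    orderOf (rep (K := K) Sy hC S) = 2 := by
  haveI : Fact (Nat.Prime 2) := ⟨Nat.prime_two⟩
  refine orderOf_eq_prime (by rw [sq]; exact rep_sq Sy hC hS h) fun e => ?_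
  rw [e, disp, Units.val_one, sub_self, Matrix.rank_zero] at hr
  omega

omit hS in
theorem rank_of_cj {g h : GL Sy.D.Idx K} (e : Cj Sy g h) : (disp g).rank = (disp h).rank := by
  obtain ⟨x, -, rfl⟩ := e
  exact (rank_disp_conj x g).symm

theorem commute_of_chk {p : ℕ} (h : commChk Sy p = true) {u : GL Sy.D.Idx K}
    (hu : u ∈ Sy.D.posUnipotent K) : Commute (xo Sy hC p (1 : K)) u := by
  simp only [commChk, Bool.and_eq_true, List.all_eq_true, List.mem_range, Nat.blt_eq] at h
  obtain ⟨f, rfl⟩ := exists_Po Sy hC hS hu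
  refine Commute.list_prod_right _ _ fun g hg => ?_
  obtain ⟨i, hi, rfl⟩ := List.mem_map.1 hg
  have hi' : i < Sy.N := by simp [List.mem_range'_1] at hi; omega
  have e := same_spec (fun _ => f i) Sy hC hS (h.2 i hi')
  simp only [wev_cons, wev_nil, mul_one, pev, mev, List.map_cons, List.map_nil, List.prod_cons,
    List.prod_nil, List.sum_cons, List.sum_nil, add_zero] at e
  exact e.symm

/-- Two root elements central in the positive unipotent group, the first of whose roots lies in a set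
of roots stable under the reflections and the second not, are not conjugate. -/
theorem not_cj_central {p q : ℕ} (hp : commChk Sy p = true) (hq : commChk Sy q = true)
    {I : List ℕ} (hpI : Sy.base + p ∈ I) (hqI : Sy.base + q ∉ I)
    (hI : ∀ i < Sy.D.rank, ∀ r ∈ I, Sy.D.reflectRoot i r ∈ I) :
    ¬ Cj Sy (rep (K := K) Sy hC [p]) (rep (K := K) Sy hC [q]) := by
  rintro ⟨g, hg, e⟩
  rw [rep_eq Sy hC hS, rep_eq Sy hC hS] at e
  simp only [List.map_cons, List.map_nil, List.prod_cons, List.prod_nil, mul_one] at e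
  have hpN : p < Sy.N := by simp [commChk] at hp; exact hp.1
  have hqN : q < Sy.N := by simp [commChk] at hq; exact hq.1
  obtain ⟨hp1, -⟩ := pos_of Sy hC hS hpN
  obtain ⟨hq1, hq2⟩ := pos_of Sy hC hS hqN
  obtain ⟨b, hb, n, hn, u, hu, rfl⟩ := NormalForm.exists_form hC hg
  obtain ⟨v, hv, k, hk, rfl⟩ := (mem_B_iff hC).1 hb
  obtain ⟨c, L, hL, rfl⟩ := (mem_N_iff hC).1 hn
  obtain ⟨d, rfl⟩ := (mem_H_iff hC).1 hk
  have hu' := (commute_of_chk Sy hC hS hp (NormalForm.Uminus_le_U hC _ hu)).eq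
  obtain ⟨η, hη, he⟩ := NormalForm.conj_xg (F := K) hC hL c hp1
  have hw := wL_lt hC hL hp1
  have e1 : tor Sy.D d * xg hC (wL Sy.D L (Sy.base + p)) (η * 1) * (tor Sy.D d)⁻¹ =
      v⁻¹ * xg hC (Sy.base + q) 1 * v := by
    rw [← he, ← e]
    have hu'' : u * xg (F := K) hC (Sy.base + p) 1 * u⁻¹ = xg hC (Sy.base + p) 1 := by
      rw [mul_inv_eq_iff_eq_mul]; exact hu'.symm
    calc tor Sy.D d * (tor Sy.D c * nL hC K L * xg hC (Sy.base + p) 1 *
          (tor Sy.D c * nL hC K L)⁻¹) * (tor Sy.D d)⁻¹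
        = tor Sy.D d * (tor Sy.D c * nL hC K L * (u * xg hC (Sy.base + p) 1 * u⁻¹) *
          (tor Sy.D c * nL hC K L)⁻¹) * (tor Sy.D d)⁻¹ := by rw [hu'']
      _ = _ := by group
  have hv' := (commute_of_chk Sy hC hS hq hv).eq
  rw [mul_assoc v⁻¹, show xg (F := K) hC (Sy.base + q) 1 * v = v * xg hC (Sy.base + q) 1 from hv',
    inv_mul_cancel_left, tor_conj_x hC _ _ _ hw] at e1
  have h1 := Weight.xg_eq_xg hC hw hq1
    (mul_ne_zero (Units.ne_zero _) (mul_ne_zero hη one_ne_zero)) e1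
  refine hqI (h1 ▸ ?_)
  clear e1 he h1 hu hn hb hg hw e hu'
  induction L with
  | nil => exact hpI
  | cons i L ih =>
    exact hI i (hL i List.mem_cons_self) _ (ih fun j hj => hL j (List.mem_cons_of_mem _ hj))

omit hS in
/-- The conjugacy classes of involutions are as many as the representatives. -/
theorem ncard_classes {classes : List (List ℕ)} (hnd : classes.Nodup)
    (hmem : ∀ S ∈ classes, rep (K := K) Sy hC S ∈ Sy.D.group K ∧ orderOf (rep (K := K) Sy hC S) = 2)
    (hall : ∀ g ∈ Sy.D.group K, orderOf g = 2 → ∃ S ∈ classes, Cj Sy g (rep (K := K) Sy hC S))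
    (hne : ∀ S ∈ classes, ∀ S' ∈ classes,
      Cj Sy (rep (K := K) Sy hC S) (rep (K := K) Sy hC S') → S = S') :
    (ConjClasses.mk '' {g : Sy.D.group K | orderOf g = 2}).ncard = classes.length := by
  classical
  rw [← List.toFinset_card_of_nodup hnd, ← Set.ncard_coe_finset]
  symm
  refine Set.ncard_congr (fun S h => ConjClasses.mk (⟨rep (K := K) Sy hC S,
    (hmem S (List.mem_toFinset.1 h)).1⟩ : Sy.D.group K)) ?_ ?_ ?_
  · intro S h
    exact ⟨_, (Subgroup.orderOf_mk _ _).trans (hmem S (List.mem_toFinset.1 h)).2, rfl⟩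
  · intro S S' h h' e
    obtain ⟨x, hx⟩ := isConj_iff.1 (ConjClasses.mk_eq_mk_iff_isConj.1 e)
    exact hne S (List.mem_toFinset.1 h) S' (List.mem_toFinset.1 h')
      ⟨x, x.2, congrArg Subtype.val hx⟩
  · rintro _ ⟨g, hg, rfl⟩
    obtain ⟨S, hS', x, hx, e⟩ := hall g g.2 ((Subgroup.orderOf_coe g).trans hg)
    exact ⟨S, List.mem_toFinset.2 hS',
      (ConjClasses.mk_eq_mk_iff_isConj.2 (isConj_iff.2 ⟨⟨x, hx⟩, Subtype.ext e⟩)).symm⟩

end Cfsg.Agent.Chevalley.InvolCert
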