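import Cfsg.Agent.Lib.Chevalley.InvolCert.Chain
import Cfsg.Agent.Lib.Chevalley.Singer.Torus
import Cfsg.Agent.Lib.Chevalley.Aut.Frame

/-! Involutions of the group are conjugate into the positive unipotent group. -/

set_option autoImplicit false
set_option linter.unusedSectionVars false

namespace Cfsg.Agent.Chevalley.InvolCert

open Cfsg.Lie Cfsg.Agent.Chevalley Cfsg.Agent.Chevalley.Table Cfsg.Agent.Chevalley.Cert
  Cfsg.Agent.Chevalley.Group Cfsg.Agent.Chevalley.Unip Cfsg.Agent.Chevalley.Borel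

theorem dvd_prod_odd {q : ℕ} (hq : 2 ∣ q) (h1 : 1 ≤ q) :
    ∀ degs : List ℕ, (∀ d ∈ degs, d ≠ 0) → ¬ 2 ∣ (degs.map fun d => q ^ d - 1).prod
  | [], _ => by simp
  | d :: degs, h => by
    rw [List.map_cons, List.prod_cons, Nat.prime_two.dvd_mul, not_or]
    refine ⟨?_, dvd_prod_odd hq h1 degs fun e he => h e (List.mem_cons_of_mem d he)⟩
    have h2 : 2 ∣ q ^ d := dvd_pow hq (h d List.mem_cons_self)
    have h3 : 1 ≤ q ^ d := Nat.one_le_pow _ _ h1
    omega

variable {K : Type*} [Field K] [CharP K 2] [Fintype K] (Sy : Sys) {T : Tab} (hC : Certified Sy.D T)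
  (hS : Sy.chkTbl = true)
include hC hS

theorem exists_conj_U {g : ℕ} {degs : List ℕ}
    (hcard : g * Nat.card (Sy.D.group K) =
      Fintype.card K ^ Sy.N * (degs.map fun d => Fintype.card K ^ d - 1).prod)
    (hdeg : ∀ d ∈ degs, d ≠ 0) : ∀ y : Sy.D.group K, orderOf y = 2 →
      ∃ x : Sy.D.group K, ((x * y * x⁻¹ : Sy.D.group K) : GL Sy.D.Idx K) ∈ Sy.D.posUnipotent K := by
  classical
  intro y hy
  haveI : Fact (Nat.Prime 2) := ⟨Nat.prime_two⟩
  obtain ⟨H, hH⟩ : ∃ H, H = (Sy.D.posUnipotent K).subgroupOf (Sy.D.group K) := ⟨_, rfl⟩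
  have hU : Nat.card H = Fintype.card K ^ Sy.N := by
    rw [hH, Nat.card_congr (Subgroup.subgroupOfEquivOfLe (AutThm.U_le_group hC)).toEquiv,
      Count.card_U hC, posRoots_eq Sy hC hS, List.length_range', Nat.card_eq_fintype_card]
  obtain ⟨k, -, hk⟩ := FiniteField.card K 2
  have hq : 2 ∣ Fintype.card K := hk ▸ dvd_pow_self 2 k.ne_zero
  have hidx : ¬ 2 ∣ H.index := by
    intro h
    rw [← Subgroup.card_mul_index H, hU, ← mul_assoc, mul_comm g, mul_assoc] at hcard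
    have := Nat.eq_of_mul_eq_mul_left (pow_pos Fintype.card_pos _) hcard
    exact dvd_prod_odd hq Fintype.card_pos degs hdeg (this ▸ dvd_mul_of_dvd_right h g)
  obtain ⟨x, hx⟩ := Singer.exists_conj_mem H hidx hy
  exact ⟨x⁻¹, by simpa [hH, Subgroup.mem_subgroupOf, mul_assoc] using hx⟩

end Cfsg.Agent.Chevalley.InvolCert
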