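import Cfsg.Agent.Lib.Chevalley.InvolCert.Collect

/-!
Certificates reducing the involutions of a positive unipotent group in characteristic two to products of
root elements with parameter one.

A state records for every coordinate whether it is zero, non-zero or arbitrary. A node of a certificate
deduces zeros from the square, and then either contradicts the hypotheses, splits a coordinate, kills a
coordinate by conjugating with a root element, or normalises by a torus and a monomial element.
-/

set_option autoImplicit false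
set_option linter.unusedSectionVars false

namespace Cfsg.Agent.Chevalley.InvolCert

open Cfsg.Lie Cfsg.Agent.Chevalley Cfsg.Agent.Chevalley.Table Cfsg.Agent.Chevalley.Cert
  Cfsg.Agent.Chevalley.Group Cfsg.Agent.Chevalley.Unip Cfsg.Agent.Chevalley.Borel Cfsg.Agent.Chevalley.Twist

/-- The flag of a coordinate. -/
def fl (st i : ℕ) : ℕ := st / 4 ^ i % 4

/-- Replace a flag. -/
def setFl (st i f : ℕ) : ℕ := st - fl st i * 4 ^ i + f * 4 ^ i

/-- The word of a state. -/
def stW (N st : ℕ) : Word := (idW N).filter fun x => !Nat.beq (fl st x.1) 0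

/-- All variables of a monomial are non-zero. -/
def allNZ (N st : ℕ) (m : List ℕ) : Bool := m.all fun x => Nat.blt x N && Nat.beq (fl st x) 1

/-- The last action of a node. -/
inductive Act where
  | contra (k : ℕ)
  | empty
  | split (v a b : ℕ)
  | kill (k s a : ℕ)
  | fin (L : List ℕ) (tgt : ℕ) (j : ℕ) (E : List (List ℤ))
  | map (L : List ℕ) (a : ℕ)

/-- A node. -/
structure Node where
  st : ℕ
  lev : ℕ
  deds : List (ℕ × ℕ)
  act : Act

/-- A table of nodes, in chunks. -/
abbrev NTable := List (List Node)

/-- The node with a given number. -/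
def NTable.get (C : NTable) (i : ℕ) : Node :=
  (C.getD (i / 64) []).getD (i % 64) ⟨0, 0, [], .empty⟩

/-- The square of a state below a bound. -/
noncomputable def sqC (Sy : Sys) (M st : ℕ) : Option (List Poly) :=
  cond (Nat.ble M Sy.N) (nfM Sy M (stW M st ++ stW M st)) none

/-- The monomials without a variable known to vanish. -/
def live (N st : ℕ) (p : Poly) : Poly :=
  p.filter fun m => m.all fun x => !(Nat.blt x N && Nat.beq (fl st x) 0)

/-- One deduction from the square. -/
def dedChk (N M : ℕ) (sq : Option (List Poly)) (st : ℕ) (kv : ℕ × ℕ) : Bool :=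
  Nat.blt kv.1 M && Nat.blt kv.2 N &&
    match sq with
    | some c =>
      (match live N st (c.getD kv.1 []) with
      | [m] => m.all fun x => Nat.beq x kv.2 || (Nat.blt x N && Nat.beq (fl st x) 1)
      | _ => false)
    | none => false

/-- All deductions. -/
def dedsChk (N M : ℕ) (sq : Option (List Poly)) : ℕ → List (ℕ × ℕ) → Option ℕ
  | st, [] => some st
  | st, kv :: l => if dedChk N M sq st kv then dedsChk N M sq (setFl st kv.2 0) l else none

/-- The support of a state. -/
def supp (N st : ℕ) : List ℕ := (List.range' 0 N).filter fun i => !Nat.beq (fl st i) 0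

/-- The word of a set of positions with parameter one. -/
def oneW (S : List ℕ) : Word := S.map fun i => (i, [[]])

/-- The image of a root under a word, by the table. -/
def refW (Sy : Sys) (L : List ℕ) (r : ℕ) : ℕ :=
  L.foldr (fun i r => (Sy.ref.getD i []).getD r 0) r

/-- The mapped word. -/
def mapW (Sy : Sys) (L : List ℕ) (S : List ℕ) : Option Word :=
  if (L.all fun i => Nat.blt i Sy.rk) && S.all fun i =>
      Nat.ble Sy.base (refW Sy L (Sy.base + i)) && Nat.blt (Sy.base + i) Sy.nr then
    some (S.map fun i => (refW Sy L (Sy.base + i) - Sy.base, [[]]))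
  else none

/-- The mapped word, the parameters unchanged. -/
def mapP (Sy : Sys) (L : List ℕ) (w : Word) : Option Word :=
  if (L.all fun i => Nat.blt i Sy.rk) && w.all fun x =>
      Nat.ble Sy.base (refW Sy L (Sy.base + x.1)) && Nat.blt (Sy.base + x.1) Sy.nr then
    some (w.map fun x => (refW Sy L (Sy.base + x.1) - Sy.base, x.2))
  else none

/-- The inner product of exponents and Cartan integers. -/
def dotCar (Sy : Sys) (e : List ℤ) (r : ℕ) : ℤ :=
  ((List.range Sy.rk).map fun i => e.getD i 0 * (Sy.car.getD i []).getD r 0).sum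

/-- The torus exponents are correct. -/
def torChk (Sy : Sys) (S : List ℕ) (j : ℕ) (E : List (List ℤ)) : Bool :=
  (List.range S.length).all fun a => (List.range S.length).all fun b =>
    dotCar Sy (E.getD a []) (S.getD b 0) == if a == b then 2 ^ j else 0

/-- The conjugated coordinate to be killed has the required shape. -/
def killShape (N st : ℕ) (p : Poly) : Bool :=
  match p.filter fun m => m.contains N with
  | [m] => allNZ N st (m.filter fun x => !Nat.beq x N) &&
      (Nat.beq (m.count N) 1 || Nat.beq (m.count N) 2)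
  | _ => false

/-- A flag of a child is implied. -/
def childFl (N st k i f : ℕ) (p : Poly) : Bool :=
  if Nat.beq f 0 then Nat.beq i k || p.isEmpty
  else if Nat.beq f 1 then
    match p with
    | [m] => !(Nat.beq i k) && allNZ N st m
    | _ => false
  else true

/-- The flags of a child are implied. -/
def flagsOK (N st k : ℕ) : List Poly → ℕ → ℕ → Bool
  | [], _, _ => true
  | p :: l, i, s => childFl N st k i (s % 4) p && flagsOK N st k l (i + 1) (s / 4)

theorem flagsOK_spec {N st k : ℕ} : ∀ {c : List Poly} {i s : ℕ}, flagsOK N st k c i s = true →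
    ∀ j < c.length, childFl N st k (i + j) (fl s j) (c.getD j []) = true
  | [], _, _, _, j, hj => by simp at hj
  | p :: l, i, s, h, j, hj => by
    simp only [flagsOK, Bool.and_eq_true] at h
    cases j with
    | zero => simpa [fl] using h.1
    | succ j =>
      have := flagsOK_spec h.2 j (by simpa using hj)
      rw [show i + 1 + j = i + (j + 1) by omega] at this
      rw [List.getD_cons_succ, fl, pow_succ', ← Nat.div_div_eq_div_mul]
      exact this

theorem dense_length : ∀ (n i : ℕ) (w : Word) (c : List Poly), dense n i w = some c → c.length = n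
  | 0, _, [], c, h => by simp only [dense, Option.some.injEq] at h; subst h; rfl
  | 0, _, _ :: _, c, h => by simp [dense] at h
  | n + 1, i, [], c, h => by
    rw [dense] at h
    obtain ⟨c', hc', rfl⟩ := Option.map_eq_some_iff.1 h
    simp [dense_length n _ _ _ hc']
  | n + 1, i, (r, p) :: l, c, h => by
    rw [dense] at h
    split at h <;> (obtain ⟨c', hc', rfl⟩ := Option.map_eq_some_iff.1 h; simp [dense_length n _ _ _ hc'])

/-- A node is correct. -/
noncomputable def nodeChk (Sy : Sys) (reps : List (List ℕ)) (C : NTable) (idx : ℕ) : Bool :=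
  match dedsChk Sy.N (C.get idx).lev (sqC Sy (C.get idx).lev (C.get idx).st) (C.get idx).st
      (C.get idx).deds with
  | none => false
  | some st =>
    match (C.get idx).act with
    | .contra k =>
      Nat.blt k (C.get idx).lev && match sqC Sy (C.get idx).lev (C.get idx).st with
        | some c => (match live Sy.N st (c.getD k []) with
          | [m] => allNZ Sy.N st m
          | _ => false)
        | none => false
    | .empty => (supp Sy.N st).isEmpty
    | .split v a b => Nat.blt v Sy.N && Nat.blt a idx && Nat.blt b idx &&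
        Nat.beq (C.get a).st (setFl st v 0) && Nat.beq (C.get b).st (setFl st v 1)
    | .kill k s a => Nat.blt k Sy.N && Nat.blt s Sy.N && Nat.blt a idx &&
        match nf Sy (((s, [[Sy.N]]) :: stW Sy.N st) ++ [(s, [[Sy.N]])]) with
        | some c => killShape Sy.N st (c.getD k []) &&
            flagsOK Sy.N st k c 0 (C.get a).st
        | none => false
    | .fin L tgt j E => Nat.blt tgt reps.length &&
        ((supp Sy.N st).all fun i => Nat.beq (fl st i) 1) && torChk Sy (supp Sy.N st) j E &&
        match mapW Sy L (supp Sy.N st) with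
        | some w => same Sy w (oneW (reps.getD tgt []))
        | none => false
    | .map L a => Nat.blt a idx &&
        match mapP Sy L (stW Sy.N st) with
        | some w => (match nf Sy w with
          | some c => flagsOK Sy.N st Sy.N c 0 (C.get a).st
          | none => false)
        | none => false

/-- A range of nodes is correct. -/
noncomputable def rangeChk (Sy : Sys) (reps : List (List ℕ)) (C : NTable) (a n : ℕ) : Bool :=
  (List.range' a n).all fun i => nodeChk Sy reps C i

theorem rangeChk_spec {Sy : Sys} {reps : List (List ℕ)} {C : NTable} {a n : ℕ}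
    (h : rangeChk Sy reps C a n = true) {i : ℕ} (h1 : a ≤ i) (h2 : i < a + n) :
    nodeChk Sy reps C i = true :=
  List.all_eq_true.1 h i (List.mem_range'_1.2 ⟨h1, h2⟩)

/-! ### Soundness -/

variable {K : Type*} [Field K] [CharP K 2] (Sy : Sys) {T : Tab} (hC : Certified Sy.D T)

/-- Conjugacy in the group. -/
def Cj (Sy : Sys) (x y : GL Sy.D.Idx K) : Prop := ∃ g ∈ Sy.D.group K, g * x * g⁻¹ = y

theorem Cj.refl (x : GL Sy.D.Idx K) : Cj Sy x x := ⟨1, one_mem _, by group⟩

theorem Cj.trans {x y z : GL Sy.D.Idx K} : Cj Sy x y → Cj Sy y z → Cj Sy x z := by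
  rintro ⟨g, hg, rfl⟩ ⟨h, hh, rfl⟩
  exact ⟨h * g, mul_mem hh hg, by group⟩

theorem Cj.symm {x y : GL Sy.D.Idx K} : Cj Sy x y → Cj Sy y x := by
  rintro ⟨g, hg, rfl⟩
  exact ⟨g⁻¹, inv_mem hg, by group⟩

theorem nbeq_eq_false {a b : ℕ} (h : a ≠ b) : Nat.beq a b = false :=
  Bool.eq_false_iff.2 fun e => h (Nat.eq_of_beq_eq_true e)

theorem zpow_sum_range (s : Kˣ) (f : ℕ → ℤ) (n : ℕ) :
    ∏ i ∈ Finset.range n, s ^ f i = s ^ ((List.range n).map f).sum := by
  induction n with
  | zero => simp
  | succ n ih => rw [Finset.prod_range_succ, ih, List.range_succ]; simp [zpow_add]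

/-- A valuation respects a state. -/
def Sem (N st : ℕ) (c : ℕ → K) : Prop :=
  ∀ i < N, (fl st i = 0 → c i = 0) ∧ (fl st i = 1 → c i ≠ 0)

theorem fl_setFl {st v f i : ℕ} (hf : f < 4) :
    fl (setFl st v f) i = if i = v then f else fl st i := by
  have hp : 0 < 4 ^ v := pow_pos (by norm_num) v
  have h1 : st = (st / 4 ^ (v + 1)) * 4 ^ (v + 1) + fl st v * 4 ^ v + st % 4 ^ v := by
    have := Nat.div_add_mod st (4 ^ v)
    have := Nat.div_add_mod (st / 4 ^ v) 4
    rw [fl, pow_succ, ← Nat.div_div_eq_div_mul]
    nlinarith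
  obtain ⟨A, hA⟩ : ∃ A, A = st / 4 ^ (v + 1) := ⟨_, rfl⟩
  obtain ⟨B, hB⟩ : ∃ B, B = st % 4 ^ v := ⟨_, rfl⟩
  obtain ⟨g, hg⟩ : ∃ g, g = fl st v := ⟨_, rfl⟩
  have hB' : B < 4 ^ v := hB ▸ Nat.mod_lt _ hp
  have hg' : g < 4 := hg ▸ Nat.mod_lt _ (by norm_num)
  rw [← hA, ← hB, ← hg] at h1
  have e : setFl st v f = A * 4 ^ (v + 1) + f * 4 ^ v + B := by
    rw [setFl, ← hg]; omega
  have key : ∀ h < 4, ∀ j, fl (A * 4 ^ (v + 1) + h * 4 ^ v + B) j =
      if j = v then h else if j < v then fl B j else fl A (j - (v + 1)) := by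
    intro h hh j
    rcases Nat.lt_trichotomy j v with hj | hj | hj
    · rw [if_neg (by omega), if_pos hj]
      obtain ⟨d, rfl⟩ := Nat.exists_eq_add_of_lt hj
      rw [fl, fl, show A * 4 ^ (j + d + 1 + 1) + h * 4 ^ (j + d + 1) + B =
        B + (A * 4 ^ (d + 1) * 4 + h * 4 ^ d * 4) * 4 ^ j by ring,
        Nat.add_mul_div_right _ _ (pow_pos (by norm_num) j),
        show A * 4 ^ (d + 1) * 4 + h * 4 ^ d * 4 = (A * 4 ^ (d + 1) + h * 4 ^ d) * 4 by ring,
        Nat.add_mul_mod_self_right]
    · subst hj
      rw [if_pos rfl, fl, show A * 4 ^ (j + 1) + h * 4 ^ j + B = B + (A * 4 + h) * 4 ^ j by ring,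
        Nat.add_mul_div_right _ _ hp, Nat.div_eq_of_lt hB', zero_add,
        Nat.mul_add_mod_self_right, Nat.mod_eq_of_lt hh]
    · rw [if_neg (by omega), if_neg (by omega)]
      obtain ⟨d, rfl⟩ : ∃ d, j = v + 1 + d := ⟨j - (v + 1), by omega⟩
      have hlt : h * 4 ^ v + B < 4 ^ (v + 1) := by
        rw [pow_succ]; nlinarith
      rw [fl, fl, Nat.add_sub_cancel_left, pow_add (4 : ℕ) (v + 1) d, ← Nat.div_div_eq_div_mul,
        show A * 4 ^ (v + 1) + h * 4 ^ v + B = (h * 4 ^ v + B) + A * 4 ^ (v + 1) by ring,
        Nat.add_mul_div_right _ _ (pow_pos (by norm_num) _), Nat.div_eq_of_lt hlt, zero_add]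
  rw [e, key f hf i]
  by_cases hiv : i = v
  · simp [hiv]
  · rw [if_neg hiv, if_neg hiv]
    conv_rhs => rw [h1, key g hg' i, if_neg hiv]

theorem Sem.set_zero {N st v : ℕ} {c : ℕ → K} (h : Sem N st c) (hv : c v = 0) :
    Sem N (setFl st v 0) c := fun i hi => by
  rw [fl_setFl (by norm_num)]
  by_cases e : i = v
  · subst e; simp [hv]
  · simp only [if_neg e]; exact h i hi

theorem Sem.set_one {N st v : ℕ} {c : ℕ → K} (h : Sem N st c) (hv : c v ≠ 0) :
    Sem N (setFl st v 1) c := fun i hi => by
  rw [fl_setFl (by norm_num)]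
  by_cases e : i = v
  · subst e; simp [hv]
  · simp only [if_neg e]; exact h i hi

theorem allNZ_ne {N st : ℕ} {c : ℕ → K} (h : Sem N st c) {m : List ℕ} (hm : allNZ N st m = true) :
    mev c m ≠ 0 := by
  intro e
  rw [mev, List.prod_eq_zero_iff, List.mem_map] at e
  obtain ⟨y, hy, hy0⟩ := e
  have := List.all_eq_true.1 hm y hy
  simp only [Bool.and_eq_true, Nat.blt_eq, Nat.beq_eq] at this
  exact (h y this.1).2 this.2 hy0

variable (hS : Sy.chkTbl = true)
include hC hS

theorem wev_stW {st : ℕ} {c v : ℕ → K} (h : Sem Sy.N st c) (hv : ∀ i < Sy.N, v i = c i) :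
    wev v Sy hC (stW Sy.N st) = Po Sy hC c := by
  rw [stW, idW, Po, List.filter_map, wev, List.map_map]
  have : ∀ l : List ℕ, (∀ i ∈ l, i < Sy.N) →
      ((l.filter ((fun x : ℕ × Poly => !Nat.beq (fl st x.1) 0) ∘ fun i => (i, [[i]]))).map
        ((fun x => xo Sy hC x.1 (pev v x.2)) ∘ fun i => (i, [[i]]))).prod =
      (l.map fun i => xo Sy hC i (c i)).prod := by
    intro l
    induction l with
    | nil => intro _; rfl
    | cons i l ih =>
      intro hl
      have hi := hl i List.mem_cons_self
      rw [List.map_cons, List.prod_cons, ← ih fun j hj => hl j (List.mem_cons_of_mem i hj),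
        List.filter_cons]
      by_cases e : fl st i = 0
      · rw [if_neg (by simp [e]), (h i hi).1 e]
        simp [xo, xg_zero hC]
      · rw [if_pos (by simp [nbeq_eq_false e]), List.map_cons, List.prod_cons]
        simp [pev, mev, hv i hi]
  exact this _ fun i hi => by simp [List.mem_range'_1] at hi; omega

theorem one_eq_Po : (1 : GL Sy.D.Idx K) = Po Sy hC fun _ => (0 : K) := by
  simp [Po, xo, xg_zero hC]

theorem pev_live {st : ℕ} {c : ℕ → K} (h : Sem Sy.N st c) (p : Poly) :
    pev c (live Sy.N st p) = pev c p := by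
  induction p with
  | nil => rfl
  | cons m p ih =>
    rw [show pev c (m :: p) = mev c m + pev c p by simp [pev]]
    rw [live, List.filter_cons]
    split
    · rw [show pev c (m :: List.filter _ p) = mev c m + pev c (live Sy.N st p) by simp [pev, live], ih]
    · next hm =>
      rw [List.all_eq_true] at hm
      push Not at hm
      obtain ⟨x, hx, hx'⟩ := hm
      replace hx' : x < Sy.N ∧ fl st x = 0 := by
        have h3 : (Nat.blt x Sy.N && Nat.beq (fl st x) 0) = true := by
          cases h4 : (Nat.blt x Sy.N && Nat.beq (fl st x) 0)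
          · exact absurd (by simp [h4]) hx'
          · rfl
        simpa only [Bool.and_eq_true, Nat.blt_eq, Nat.beq_eq] using h3
      have : mev c m = 0 := by
        rw [mev, List.prod_eq_zero_iff, List.mem_map]
        exact ⟨x, hx, (h x hx'.1).1 hx'.2⟩
      rw [this, zero_add]
      exact ih

/-- The coordinates of the square below a bound vanish. -/
theorem sq_coord {M st k : ℕ} {d : List Poly} {c : ℕ → K} (h : Sem Sy.N st c)
    (h2 : Po Sy hC c * Po Sy hC c = 1) (hd : sqC Sy M st = some d) (hk : k < M) :
    pev c (d.getD k []) = 0 := by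
  classical
  rw [sqC] at hd
  cases hMb : Nat.ble M Sy.N
  · rw [hMb] at hd; simp at hd
  rw [hMb, cond_true] at hd
  have hM : M ≤ Sy.N := Nat.le_of_ble_eq_true hMb
  obtain ⟨Q, hQ⟩ : ∃ Q, Q = (Uge hC K (Sy.base + M)).subgroupOf (Sy.D.posUnipotent K) := ⟨_, rfl⟩
  haveI hn : Q.Normal := ⟨fun q hq g => by
    subst hQ
    simp only [Subgroup.mem_subgroupOf, Subgroup.coe_mul, Subgroup.coe_inv] at hq ⊢
    exact conj_Uge_of_mem hC g.2 hq⟩
  obtain ⟨φ, hφ⟩ : ∃ φ : ℕ → K → Sy.D.posUnipotent K ⧸ Q, φ = fun i t =>
      if hi : i < M then QuotientGroup.mk ⟨xo Sy hC i t, xo_mem Sy hC hS (hi.trans_le hM) t⟩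
      else 1 := ⟨_, rfl⟩
  have hmk : ∀ {i : ℕ} (hi : i < Sy.N) (t : K),
      φ i t = QuotientGroup.mk' Q ⟨xo Sy hC i t, xo_mem Sy hC hS hi t⟩ := by
    intro i hi t
    rw [hφ]
    by_cases hiM : i < M
    · simp only [dif_pos hiM]; rfl
    · simp only [dif_neg hiM]
      refine ((QuotientGroup.eq_one_iff _).2 ?_).symm
      rw [hQ, Subgroup.mem_subgroupOf]
      exact xg_mem_Uge hC (pos_of Sy hC hS hi).1 (pos_of Sy hC hS hi).2 (by omega) t
  have hword : ∀ (w : List ℕ) (f : ℕ → K) (hw : ∀ i ∈ w, i < Sy.N),
      (w.map fun i => φ i (f i)).prod = QuotientGroup.mk' Q ⟨(w.map fun i => xo Sy hC i (f i)).prod,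
        list_prod_mem fun g hg => by
          obtain ⟨i, hi, rfl⟩ := List.mem_map.1 hg
          exact xo_mem Sy hC hS (hw i hi) _⟩ := by
    intro w f hw
    induction w with
    | nil => exact (map_one (QuotientGroup.mk' Q)).symm
    | cons i w ih =>
      rw [List.map_cons, List.prod_cons, ih fun j hj => hw j (List.mem_cons_of_mem i hj),
        hmk (hw i List.mem_cons_self), ← map_mul]
      exact congrArg _ (Subtype.ext (by simp))
  have hPo : ∀ f : ℕ → K, ((List.range' 0 M).map fun i => φ i (f i)).prod =
      QuotientGroup.mk' Q ⟨Po Sy hC f, Po_mem Sy hC hS f⟩ := by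
    intro f
    have e : ((List.range' 0 Sy.N).map fun i => φ i (f i)).prod =
        ((List.range' 0 M).map fun i => φ i (f i)).prod := by
      rw [show List.range' 0 Sy.N = List.range' 0 M ++ List.range' M (Sy.N - M) by
        rw [show List.range' M (Sy.N - M) = List.range' (0 + 1 * M) (Sy.N - M) by simp,
          List.range'_append, show M + (Sy.N - M) = Sy.N by omega],
        List.map_append, List.prod_append, show ∀ a b : Sy.D.posUnipotent K ⧸ Q, b = 1 → a * b = a from fun a b hb => by rw [hb, mul_one]]
      apply List.prod_eq_one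
      intro x hx
      obtain ⟨i, hi, rfl⟩ := List.mem_map.1 hx
      rw [List.mem_range'_1] at hi
      rw [hφ]
      simp only [dif_neg (by omega : ¬ i < M)]
    rw [← e, hword _ f fun i hi => by rw [List.mem_range'_1] at hi; omega]
    rfl
  have hadd : ∀ i t u, φ i (t + u) = φ i t * φ i u := by
    intro i t u
    by_cases hi : i < M
    · rw [hmk (hi.trans_le hM), hmk (hi.trans_le hM), hmk (hi.trans_le hM), ← map_mul]
      exact congrArg _ (Subtype.ext (xg_add hC _ t u))
    · rw [hφ]; simp only [dif_neg hi, mul_one]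
  have hswap : ∀ {r s : ℕ}, r < s → s < M → ∀ t u : K, φ s u * φ r t = φ r t * φ s u *
      ((Sy.termsM M r s).map fun x => φ x.1 (t ^ x.2.1 * u ^ x.2.2)).prod := by
    intro r s hrs hsM t u
    have hT : ∀ L : List (ℕ × ℕ × ℕ), (∀ x ∈ L, x.1 < Sy.N) →
        ∃ hm, ((L.filter fun x => Nat.blt x.1 M).map fun x => φ x.1 (t ^ x.2.1 * u ^ x.2.2)).prod =
          QuotientGroup.mk' Q
            ⟨(L.map fun x => xo Sy hC x.1 (t ^ x.2.1 * u ^ x.2.2)).prod, hm⟩ := by
      intro L hL
      induction L with
      | nil => exact ⟨one_mem _, (map_one (QuotientGroup.mk' Q)).symm⟩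
      | cons x L ih =>
        obtain ⟨hm, e⟩ := ih fun y hy => hL y (List.mem_cons_of_mem x hy)
        have hx := hL x List.mem_cons_self
        refine ⟨by rw [List.map_cons, List.prod_cons]; exact mul_mem (xo_mem Sy hC hS hx _) hm, ?_⟩
        have e' : ((x :: L).filter fun x => Nat.blt x.1 M).map
            (fun x => φ x.1 (t ^ x.2.1 * u ^ x.2.2)) = if x.1 < M then
            φ x.1 (t ^ x.2.1 * u ^ x.2.2) ::
              (L.filter fun x => Nat.blt x.1 M).map (fun x => φ x.1 (t ^ x.2.1 * u ^ x.2.2)) else
            (L.filter fun x => Nat.blt x.1 M).map fun x => φ x.1 (t ^ x.2.1 * u ^ x.2.2) := by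
          rw [List.filter_cons]
          simp only [Nat.blt_eq]
          split <;> simp
        have e'' : φ x.1 (t ^ x.2.1 * u ^ x.2.2) * QuotientGroup.mk' Q
            ⟨(L.map fun x => xo Sy hC x.1 (t ^ x.2.1 * u ^ x.2.2)).prod, hm⟩ = QuotientGroup.mk' Q
            ⟨((x :: L).map fun x => xo Sy hC x.1 (t ^ x.2.1 * u ^ x.2.2)).prod,
              by rw [List.map_cons, List.prod_cons]; exact mul_mem (xo_mem Sy hC hS hx _) hm⟩ := by
          rw [hmk hx, ← map_mul]
          exact congrArg _ (Subtype.ext (by simp))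
        rw [e']
        split
        · rw [List.prod_cons, e, e'']
        · next hxM =>
          rw [e]
          have : φ x.1 (t ^ x.2.1 * u ^ x.2.2) = 1 := by rw [hφ]; simp only [dif_neg hxM]
          rw [this, one_mul] at e''
          exact e''
    obtain ⟨hm, e⟩ := hT _ (mask_ok Sy hC hS hrs (hsM.trans_le hM)).1
    rw [Sys.termsM, e, hmk (hsM.trans_le hM), hmk (by omega : r < Sy.N), ← map_mul, ← map_mul,
      ← map_mul]
    exact congrArg _ (Subtype.ext (swap Sy hC hS hrs (hsM.trans_le hM) t u))
  -- the square is trivial modulo the bound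
  have hst : evalW c φ (stW M st) = QuotientGroup.mk' Q ⟨Po Sy hC c, Po_mem Sy hC hS c⟩ := by
    rw [← hPo c, evalW, stW, idW, List.filter_map, List.map_map]
    have : ∀ l : List ℕ, (∀ i ∈ l, i < M) →
        ((l.filter ((fun x : ℕ × Poly => !Nat.beq (fl st x.1) 0) ∘ fun i => (i, [[i]]))).map
          ((fun x => φ x.1 (pev c x.2)) ∘ fun i => (i, [[i]]))).prod =
        (l.map fun i => φ i (c i)).prod := by
      intro l
      induction l with
      | nil => intro _; rfl
      | cons i l ih =>
        intro hl
        have hi := hl i List.mem_cons_self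
        rw [List.map_cons, List.prod_cons, ← ih fun j hj => hl j (List.mem_cons_of_mem i hj),
          List.filter_cons]
        by_cases e : fl st i = 0
        · rw [if_neg (by simp [e]), (h i (hi.trans_le hM)).1 e]
          have : φ i 0 = 1 := by
            have := hadd i 0 0
            rwa [add_zero, left_eq_mul] at this
          rw [this, one_mul]
        · rw [if_pos (by simp [nbeq_eq_false e]), List.map_cons, List.prod_cons]
          simp [pev, mev]
    exact this _ fun i hi => by simp [List.mem_range'_1] at hi; omega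
  have hw : evalW c φ (stW M st ++ stW M st) = 1 := by
    rw [evalW, List.map_append, List.prod_append]
    rw [evalW] at hst
    rw [hst, ← map_mul]
    convert map_one (QuotientGroup.mk' Q)
    exact Subtype.ext h2
  -- its normal form
  obtain ⟨w, hwd⟩ : ∃ w, w = stW M st ++ stW M st := ⟨_, rfl⟩
  rw [← hwd] at hd hw
  have hnorm : ∀ w : Word, evalW c φ (norm w) = evalW c φ w := by
    intro w
    induction w with
    | nil => rfl
    | cons x w ih =>
      rw [norm] at ih ⊢
      rw [List.filter_cons]
      split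
      · rw [evalW_cons, ih, evalW_cons]
      · next hx =>
        rw [ih, evalW_cons, show x.2 = [] from List.isEmpty_iff.1 (by simpa using hx)]
        have : φ x.1 0 = 1 := by
          have := hadd x.1 0 0
          rwa [add_zero, left_eq_mul] at this
        rw [show pev c [] = 0 from rfl, this, one_mul]
  have hcol : evalW c φ (norm (foldR (push Sy M 400) [] (norm w))) = 1 := by
    rw [hnorm, evalW_foldR c φ (evalW_push c Sy hC hS φ hM hadd hswap 400), hnorm, hw]
    exact mul_one _
  rw [eval_dense c φ (fun i => by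
    have := hadd i 0 0
    rwa [add_zero, left_eq_mul] at this) M 0 _ d hd] at hcol
  simp only [Nat.sub_zero] at hcol
  rw [hPo fun i => pev c (d.getD i [])] at hcol
  have hmem : Po Sy hC (fun i => pev c (d.getD i [])) ∈ Uge hC K (Sy.base + M) := by
    have := (QuotientGroup.eq_one_iff _).1 hcol
    rwa [hQ, Subgroup.mem_subgroupOf] at this
  exact coord_eq_zero Sy hC hS hmem hk (hk.trans_le hM)

theorem ded_sound {M st0 st : ℕ} {kv : ℕ × ℕ} {c : ℕ → K} (h0 : Sem Sy.N st0 c) (h : Sem Sy.N st c)
    (h2 : Po Sy hC c * Po Sy hC c = 1) (hchk : dedChk Sy.N M (sqC Sy M st0) st kv = true) :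
    Sem Sy.N (setFl st kv.2 0) c := by
  simp only [dedChk, Bool.and_eq_true, Nat.blt_eq] at hchk
  obtain ⟨⟨hk, -⟩, hm⟩ := hchk
  split at hm
  · next d hd =>
    split at hm
    · next m hp =>
      refine h.set_zero ?_
      have e := sq_coord Sy hC hS h0 h2 hd hk
      rw [← pev_live Sy hC hS h, hp] at e
      simp only [pev, List.map_cons, List.map_nil, List.sum_cons, List.sum_nil, add_zero, mev,
        List.prod_eq_zero_iff, List.mem_map] at e
      obtain ⟨x, hx, hx0⟩ := e
      have := List.all_eq_true.1 hm x hx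
      simp only [Bool.or_eq_true, Bool.and_eq_true, Nat.beq_eq, Nat.blt_eq] at this
      rcases this with rfl | ⟨hxN, hx1⟩
      · exact hx0
      · exact absurd hx0 ((h x hxN).2 hx1)
    · simp at hm
  · simp at hm

theorem deds_sound {M st0 : ℕ} {c : ℕ → K} (h0 : Sem Sy.N st0 c) :
    ∀ {l : List (ℕ × ℕ)} {st st' : ℕ}, Sem Sy.N st c →
      Po Sy hC c * Po Sy hC c = 1 → dedsChk Sy.N M (sqC Sy M st0) st l = some st' → Sem Sy.N st' c
  | [], st, st', h, _, e => by simp only [dedsChk, Option.some.injEq] at e; exact e ▸ h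
  | kv :: l, st, st', h, h2, e => by
    rw [dedsChk] at e
    split at e
    · next hd => exact deds_sound h0 (ded_sound Sy hC hS h0 h h2 hd) h2 e
    · simp at e

theorem split_count (v : ℕ → K) (a : ℕ) : ∀ m : List ℕ,
    mev v m = mev v (m.filter fun x => !Nat.beq x a) * v a ^ m.count a
  | [] => by simp [mev]
  | x :: m => by
    have ih := split_count v a m
    simp only [mev, List.map_cons, List.prod_cons] at ih ⊢
    rw [ih, List.filter_cons, List.count_cons]
    by_cases e : x = a
    · subst e; rw [if_neg (by simp)]; simp [pow_succ]; ring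
    · rw [if_pos (by simp [nbeq_eq_false e]), List.map_cons, List.prod_cons]
      simp [e]; ring

theorem split_filter (v : ℕ → K) (P : List ℕ → Bool) : ∀ p : Poly,
    pev v p = pev v (p.filter fun m => !P m) + pev v (p.filter P)
  | [] => by simp [pev]
  | m :: p => by
    have ih := split_filter v P p
    simp only [pev, List.map_cons, List.sum_cons] at ih ⊢
    rw [ih, List.filter_cons, List.filter_cons]
    cases P m <;> simp <;> ring

variable [Fintype K]

theorem exists_kill {st : ℕ} {p : Poly} {c : ℕ → K} (h : Sem Sy.N st c)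
    (hp : killShape Sy.N st p = true) :
    ∃ t : K, pev (fun j => if j = Sy.N then t else c j) p = 0 := by
  unfold killShape at hp
  split at hp
  · next m hm =>
    simp only [Bool.and_eq_true, Bool.or_eq_true, Nat.beq_eq] at hp
    obtain ⟨hq, hn⟩ := hp
    obtain ⟨Q, hQ⟩ : ∃ Q, Q = mev c (m.filter fun x => !Nat.beq x Sy.N) := ⟨_, rfl⟩
    obtain ⟨P, hP⟩ : ∃ P, P = pev c (p.filter fun m => !m.contains Sy.N) := ⟨_, rfl⟩
    have hQ0 : Q ≠ 0 := hQ ▸ allNZ_ne h hq
    have key : ∀ t : K, pev (fun j => if j = Sy.N then t else c j) p = P + Q * t ^ m.count Sy.N := by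
      intro t
      rw [split_filter Sy hC hS _ (fun m => m.contains Sy.N), hm, hP, hQ]
      congr 1
      · refine congrArg List.sum (List.map_congr_left fun x hx => ?_)
        simp only [List.mem_filter, Bool.not_eq_true', List.contains_eq_mem,
          decide_eq_false_iff_not] at hx
        refine congrArg List.prod (List.map_congr_left fun y hy => ?_)
        rw [if_neg]
        rintro rfl
        exact hx.2 hy
      · simp only [pev, List.map_cons, List.map_nil, List.sum_cons, List.sum_nil, add_zero]
        rw [split_count Sy hC hS _ Sy.N m]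
        simp only [if_pos]
        congr 1
        refine congrArg List.prod (List.map_congr_left fun y hy => ?_)
        simp only [List.mem_filter, Bool.not_eq_true'] at hy
        rw [if_neg (fun e => by simp [e] at hy)]
    rcases hn with hn | hn
    · refine ⟨P / Q, ?_⟩
      rw [key, hn, pow_one, mul_div_cancel₀ _ hQ0, _root_.CharTwo.add_self_eq_zero]
    · obtain ⟨t, ht⟩ := FiniteField.isSquare_of_char_two (ringChar.eq K 2) (P / Q)
      refine ⟨t, ?_⟩
      rw [key, hn, sq, ← ht, mul_div_cancel₀ _ hQ0, _root_.CharTwo.add_self_eq_zero]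
  · simp at hp

theorem xo_mem_group {i : ℕ} (hi : i < Sy.N) (t : K) : xo Sy hC i t ∈ Sy.D.group K :=
  xg_mem_group hC (pos_of Sy hC hS hi).1 t

/-- A monomial element maps a word. -/
theorem refW_eq {L : List ℕ} (hL : ∀ i ∈ L, i < Sy.D.rank) {r : ℕ} (hr : r < Sy.D.nroots) :
    refW Sy L r = wL Sy.D L r := by
  induction L with
  | nil => rfl
  | cons i L ih =>
    have hL' := fun j hj => hL j (List.mem_cons_of_mem i hj)
    have h1 := ih hL'
    simp only [refW] at h1
    rw [refW, List.foldr_cons, h1, ref_eq Sy hC hS ((rk_eq Sy hC hS).1 ▸ hL i List.mem_cons_self)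
      ((rk_eq Sy hC hS).2 ▸ wL_lt hC hL' hr)]
    rfl

theorem cj_mapP {L : List ℕ} {w w' : Word} (v : ℕ → K) (h : mapP Sy L w = some w') :
    Cj Sy (wev v Sy hC w) (wev v Sy hC w') := by
  unfold mapP at h
  split at h
  · next hc =>
    rw [Option.some.injEq] at h
    subst h
    simp only [Bool.and_eq_true, List.all_eq_true, Nat.blt_eq, Nat.ble_eq] at hc
    obtain ⟨hL', hi⟩ := hc
    have hL : ∀ i ∈ L, i < Sy.D.rank := fun i h => by rw [(rk_eq Sy hC hS).1]; exact hL' i h
    refine ⟨nL hC K L, N_le_group hC (nL_mem_N hC hL), ?_⟩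
    induction w with
    | nil => simp [wev]
    | cons x w ih =>
      obtain ⟨h1, h2⟩ := hi x List.mem_cons_self
      rw [← (rk_eq Sy hC hS).2] at h2
      rw [List.map_cons, wev_cons, wev_cons, ← ih fun y hy => hi y (List.mem_cons_of_mem x hy)]
      simp only [xo]
      rw [show Sy.base + (refW Sy L (Sy.base + x.1) - Sy.base) = refW Sy L (Sy.base + x.1) by omega,
        refW_eq Sy hC hS hL h2, ← CharTwo.nL_conj hL h2]
      group
  · simp at h

theorem cj_mapW {L S : List ℕ} {w : Word} (h : mapW Sy L S = some w) :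
    Cj Sy (wev (fun _ => (0 : K)) Sy hC (oneW S)) (wev (fun _ => (0 : K)) Sy hC w) := by
  refine cj_mapP Sy hC hS _ (L := L) (w := oneW S) ?_
  simpa [mapP, mapW, oneW, List.all_map, List.map_map, Function.comp_def] using h

theorem exists_root2 (j : ℕ) (z : Kˣ) : ∃ s : Kˣ, s ^ (2 ^ j) = z := by
  induction j with
  | zero => exact ⟨z, pow_one z⟩
  | succ j ih =>
    obtain ⟨s, rfl⟩ := ih
    obtain ⟨r, hr⟩ := FiniteField.isSquare_of_char_two (ringChar.eq K 2) (s : K)
    have hr0 : r ≠ 0 := fun e => s.ne_zero (by rw [hr, e, mul_zero])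
    refine ⟨Units.mk0 r hr0, ?_⟩
    rw [show s = Units.mk0 r hr0 ^ 2 from Units.ext (by simp [hr, sq]), ← pow_mul]
    congr 1
    ring

/-- The torus makes all parameters one. -/
theorem cj_tor {st j : ℕ} {E : List (List ℤ)} {c : ℕ → K} (h : Sem Sy.N st c)
    (h1 : ((supp Sy.N st).all fun i => Nat.beq (fl st i) 1) = true)
    (hE : torChk Sy (supp Sy.N st) j E = true) :
    Cj Sy (Po Sy hC c) (wev (fun _ => (0 : K)) Sy hC (oneW (supp Sy.N st))) := by
  classical
  obtain ⟨S, hSd⟩ : ∃ S, S = supp Sy.N st := ⟨_, rfl⟩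
  rw [← hSd] at h1 hE ⊢
  have hlt : ∀ x ∈ S, x < Sy.N ∧ c x ≠ 0 := by
    intro x hx
    have hxN : x < Sy.N := by
      rw [hSd, supp, List.mem_filter, List.mem_range'_1] at hx
      omega
    have := List.all_eq_true.1 h1 x hx
    exact ⟨hxN, (h x hxN).2 (Nat.eq_of_beq_eq_true this)⟩
  have hroot : ∀ a : Fin S.length, ∃ s : Kˣ, ((s ^ (2 ^ j) : Kˣ) : K) * c S[a] = 1 := fun a => by
    obtain ⟨s, hs⟩ := exists_root2 Sy hC hS j (Units.mk0 _ (hlt _ (List.getElem_mem a.2)).2)⁻¹
    exact ⟨s, by rw [hs, Units.val_inv_eq_inv_val, Units.val_mk0]; exact inv_mul_cancel₀ (hlt _ (List.getElem_mem a.2)).2⟩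
  choose s hs using hroot
  obtain ⟨d, hd⟩ : ∃ d : ℕ → Kˣ, d = fun i => ∏ a : Fin S.length, s a ^ ((E.getD a []).getD i 0) :=
    ⟨_, rfl⟩
  have hdot : ∀ {e : List ℤ} {r : ℕ}, r < Sy.N →
      ((List.range Sy.D.rank).map fun i => e.getD i 0 * Sy.D.cartan i (Sy.base + r)).sum =
        dotCar Sy e r := fun {e r} hr => by
    rw [dotCar, (rk_eq Sy hC hS).1]
    exact congrArg List.sum (List.map_congr_left fun i hi => by
      rw [car_eq Sy hC hS (List.mem_range.1 hi) hr])
  have hchar : ∀ b : Fin S.length, torChar Sy.D d (Sy.base + S[b]) = s b ^ (2 ^ j) := by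
    intro b
    rw [torChar, hd]
    simp only [← Finset.prod_zpow, ← zpow_mul]
    rw [Finset.prod_comm]
    rw [Finset.prod_eq_single b]
    · rw [zpow_sum_range]
      have := List.all_eq_true.1 (List.all_eq_true.1 hE b (List.mem_range.2 b.2)) b
        (List.mem_range.2 b.2)
      simp only [beq_iff_eq, if_pos, List.getD_eq_getElem _ _ b.2] at this
      rw [← hdot (hlt _ (List.getElem_mem b.2)).1] at this
      simp only [Fin.getElem_fin]
      rw [this]
      exact_mod_cast zpow_natCast (s b) (2 ^ j)
    · intro a _ hab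
      rw [zpow_sum_range]
      have := List.all_eq_true.1 (List.all_eq_true.1 hE a (List.mem_range.2 a.2)) b
        (List.mem_range.2 b.2)
      simp only [beq_iff_eq, Fin.val_inj, if_neg hab, List.getD_eq_getElem _ _ b.2] at this
      rw [← hdot (hlt _ (List.getElem_mem b.2)).1] at this
      simp only [Fin.getElem_fin]
      rw [this]
      exact zpow_zero _
    · intro hb; exact absurd (Finset.mem_univ b) hb
  refine ⟨tor Sy.D d, H_le_group hC (tor_mem_H hC d), ?_⟩
  rw [← wev_stW Sy hC hS h (v := c) fun _ _ => rfl]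
  have hw : stW Sy.N st = S.map fun i => (i, [[i]]) := by
    rw [hSd, supp, stW, idW, List.filter_map]
    rfl
  rw [hw, oneW]
  have key : ∀ l : List ℕ, (∀ i ∈ l, i ∈ S) →
      tor Sy.D d * wev c Sy hC (l.map fun i => (i, [[i]])) * (tor Sy.D d)⁻¹ =
        wev (fun _ => (0 : K)) Sy hC (l.map fun i => (i, [[]])) := by
    intro l
    induction l with
    | nil => intro _; simp [wev]
    | cons i l ih =>
      intro hl
      obtain ⟨b, hb, rfl⟩ := List.getElem_of_mem (hl i List.mem_cons_self)
      rw [List.map_cons, List.map_cons, wev_cons, wev_cons,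
        ← ih fun j hj => hl j (List.mem_cons_of_mem _ hj)]
      have e : xo Sy hC S[b] (pev (fun _ => (0 : K)) [[]]) =
          tor Sy.D d * xo Sy hC S[b] (pev c [[S[b]]]) * (tor Sy.D d)⁻¹ := by
        simp only [xo]
        rw [tor_conj_x hC _ _ _ (pos_of Sy hC hS (hlt _ (List.getElem_mem hb)).1).1]
        congr 1
        have := hchar ⟨b, hb⟩
        simp only [Fin.getElem_fin] at this
        rw [this]
        simpa [pev, mev] using (hs ⟨b, hb⟩).symm
      rw [e]
      group
  exact key S fun _ h => h

/-- The involutions of the states of a correct certificate are conjugate to representatives. -/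
theorem sound {reps : List (List ℕ)} {C : NTable} {n : ℕ}
    (hC' : ∀ i < n, nodeChk Sy reps C i = true) : ∀ i < n, ∀ c : ℕ → K,
    Sem Sy.N (C.get i).st c → Po Sy hC c * Po Sy hC c = 1 → Po Sy hC c ≠ 1 →
    ∃ r ∈ reps, Cj Sy (Po Sy hC c) (wev (fun _ => (0 : K)) Sy hC (oneW r)) := by
  intro i
  induction i using Nat.strong_induction_on with
  | _ i ih =>
    intro hi c hc h2 h1
    have h := hC' i hi
    unfold nodeChk at h
    split at h
    · simp at h
    next st hded =>
    have hst := deds_sound Sy hC hS hc hc h2 hded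
    split at h
    · next k hact =>
      simp only [Bool.and_eq_true, Nat.blt_eq] at h
      obtain ⟨hk, h⟩ := h
      split at h
      · next d hd =>
        split at h
        · next m hp =>
          have e := sq_coord Sy hC hS hc h2 hd hk
          rw [← pev_live Sy hC hS hst, hp] at e
          simp only [pev, List.map_cons, List.map_nil, List.sum_cons, List.sum_nil, add_zero] at e
          exact absurd e (allNZ_ne hst h)
        · simp at h
      · simp at h
    · next hact =>
      refine absurd ?_ h1
      rw [← wev_stW Sy hC hS hst (v := c) fun _ _ => rfl]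
      have : stW Sy.N st = (supp Sy.N st).map fun i => (i, [[i]]) := by
        rw [supp, stW, idW, List.filter_map]; rfl
      rw [this, List.isEmpty_iff.1 h]
      rfl
    · next v a b hact =>
      simp only [Bool.and_eq_true, Nat.blt_eq, Nat.beq_eq] at h
      obtain ⟨⟨⟨⟨-, ha⟩, hb⟩, ea⟩, eb⟩ := h
      by_cases hv : c v = 0
      · exact ih a ha (by omega) c (ea ▸ hst.set_zero hv) h2 h1
      · exact ih b hb (by omega) c (eb ▸ hst.set_one hv) h2 h1
    · next k s a hact =>
      simp only [Bool.and_eq_true, Nat.blt_eq] at h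
      obtain ⟨⟨⟨hk, hs⟩, ha⟩, h⟩ := h
      split at h
      · next d hd =>
        simp only [Bool.and_eq_true] at h
        obtain ⟨hshape, hfl⟩ := h
        obtain ⟨t, ht⟩ := exists_kill Sy hC hS hst hshape
        obtain ⟨v, hv⟩ : ∃ v : ℕ → K, v = fun j => if j = Sy.N then t else c j := ⟨_, rfl⟩
        rw [← hv] at ht
        have hvc : ∀ j < Sy.N, v j = c j := fun j hj => by rw [hv]; simp [hj.ne]
        have e := wev_nf v Sy hC hS hd
        rw [List.cons_append, wev_cons, wev_append, wev_cons, wev_nil, mul_one,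
          wev_stW Sy hC hS hst hvc] at e
        simp only [pev, mev, List.map_cons, List.map_nil, List.prod_cons, List.prod_nil,
          List.sum_cons, List.sum_nil, mul_one, add_zero] at e
        obtain ⟨x, hx⟩ : ∃ x, x = xo Sy hC s (v Sy.N) := ⟨_, rfl⟩
        rw [← hx] at e
        have hxx : x⁻¹ = x := hx ▸ CharTwo.xg_inv_self _ _
        have hcj : Cj Sy (Po Sy hC c) (Po Sy hC fun j => pev v (d.getD j [])) :=
          ⟨x, hx ▸ xo_mem_group Sy hC hS hs _, by rw [hxx, mul_assoc]; exact e⟩
        have hsem : Sem Sy.N (C.get a).st fun j => pev v (d.getD j []) := by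
          intro j hj
          have hj' := flagsOK_spec hfl j (by
            rw [dense_length _ _ _ _ hd]; exact hj)
          rw [zero_add] at hj'
          unfold childFl at hj'
          refine ⟨fun h0 => ?_, fun h1' => ?_⟩
          · rw [h0, if_pos (by rfl)] at hj'
            simp only [Bool.or_eq_true, Nat.beq_eq, List.isEmpty_iff] at hj'
            rcases hj' with rfl | hj'
            · exact ht
            · show pev v (d.getD j []) = 0
              rw [hj']; rfl
          · rw [h1', if_neg (by simp), if_pos (by rfl)] at hj'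
            split at hj'
            · next m hm =>
              simp only [Bool.and_eq_true] at hj'
              show pev v (d.getD j []) ≠ 0
              rw [hm]
              simp only [pev, List.map_cons, List.map_nil, List.sum_cons, List.sum_nil, add_zero]
              exact allNZ_ne (fun i hi => by rw [hvc i hi]; exact hst i hi) hj'.2
            · simp at hj'
        obtain ⟨g, hg, eg⟩ := hcj
        have h2' : Po Sy hC (fun j => pev v (d.getD j [])) * Po Sy hC (fun j => pev v (d.getD j [])) = 1 := by
          rw [← eg, show g * Po Sy hC c * g⁻¹ * (g * Po Sy hC c * g⁻¹) =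
            g * (Po Sy hC c * Po Sy hC c) * g⁻¹ by group, h2, mul_one, mul_inv_cancel]
        have h1' : Po Sy hC (fun j => pev v (d.getD j [])) ≠ 1 := fun e1 => h1 (by
          rw [← eg, mul_inv_eq_one] at e1
          exact mul_eq_left.1 e1)
        obtain ⟨r, hr, hr'⟩ := ih a ha (by omega) _ hsem h2' h1'
        exact ⟨r, hr, Cj.trans Sy ⟨g, hg, eg⟩ hr'⟩
      · simp at h
    · next L tgt j E hact =>
      simp only [Bool.and_eq_true, Nat.blt_eq] at h
      obtain ⟨⟨⟨htgt, hall⟩, hE⟩, h⟩ := h
      split at h
      · next w hw =>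
        refine ⟨reps.getD tgt [], ?_, ?_⟩
        · rw [List.getD_eq_getElem _ _ htgt]; exact List.getElem_mem htgt
        · refine (cj_tor Sy hC hS hst hall hE).trans Sy ?_
          rw [← same_spec (fun _ => (0 : K)) Sy hC hS h]
          exact cj_mapW Sy hC hS hw
      · simp at h
    · next L a hact =>
      simp only [Bool.and_eq_true, Nat.blt_eq] at h
      obtain ⟨ha, h⟩ := h
      split at h
      · next w hw =>
        split at h
        · next d hd =>
          have hcj := cj_mapP Sy hC hS c hw
          rw [wev_stW Sy hC hS hst (v := c) fun _ _ => rfl, wev_nf c Sy hC hS hd] at hcj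
          obtain ⟨g, hg, eg⟩ := hcj
          have hsem : Sem Sy.N (C.get a).st fun j => pev c (d.getD j []) := by
            intro j hj
            have hj' := flagsOK_spec h j (by rw [dense_length _ _ _ _ hd]; exact hj)
            rw [zero_add] at hj'
            unfold childFl at hj'
            refine ⟨fun h0 => ?_, fun h1' => ?_⟩
            · rw [h0, if_pos (by rfl)] at hj'
              simp only [Bool.or_eq_true, Nat.beq_eq, List.isEmpty_iff] at hj'
              rcases hj' with rfl | hj'
              · omega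
              · show pev c (d.getD j []) = 0
                rw [hj']; rfl
            · rw [h1', if_neg (by simp), if_pos (by rfl)] at hj'
              split at hj'
              · next m hm =>
                simp only [Bool.and_eq_true] at hj'
                show pev c (d.getD j []) ≠ 0
                rw [hm]
                simp only [pev, List.map_cons, List.map_nil, List.sum_cons, List.sum_nil, add_zero]
                exact allNZ_ne hst hj'.2
              · simp at hj'
          have h2' : Po Sy hC (fun j => pev c (d.getD j [])) * Po Sy hC (fun j => pev c (d.getD j [])) = 1 := by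
            rw [← eg, show g * Po Sy hC c * g⁻¹ * (g * Po Sy hC c * g⁻¹) =
              g * (Po Sy hC c * Po Sy hC c) * g⁻¹ by group, h2, mul_one, mul_inv_cancel]
          have h1' : Po Sy hC (fun j => pev c (d.getD j [])) ≠ 1 := fun e1 => h1 (by
            rw [← eg, mul_inv_eq_one] at e1
            exact mul_eq_left.1 e1)
          obtain ⟨r, hr, hr'⟩ := ih a ha (by omega) _ hsem h2' h1'
          exact ⟨r, hr, Cj.trans Sy ⟨g, hg, eg⟩ hr'⟩
        · simp at h
      · simp at h

end Cfsg.Agent.Chevalley.InvolCert
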